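import Mathlib.Tactic

/-!
The arithmetic closing the case where the central elements of order `p` meet `C(b)`.
-/

set_option autoImplicit false

namespace CfsgLib.GW.Alpha

/-- The lower bound for the class of `a` in `N(Q)`. -/
theorem size_le {q cl rL r m T : ℕ} (hdvd : m * T ∣ cl) (hclpos : 0 < cl) (hcl : cl ≤ q + 1)
    (hrL : 2 * rL = q * (q - 1) ∨ 2 * rL = q * (q + 1)) (hr : rL ∣ r) (hrpos : 0 < r) (hm : 2 ≤ m * T) :
    (m * T - 1) * (m * T - 2) ≤ 2 * r := by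
  have h1 : m * T ≤ cl := Nat.le_of_dvd hclpos hdvd
  have h2 : rL ≤ r := Nat.le_of_dvd hrpos hr
  have h3 : q * (q - 1) ≤ 2 * rL := by
    rcases hrL with h | h
    · omega
    · rw [h]; exact Nat.mul_le_mul_left _ (by omega)
  calc (m * T - 1) * (m * T - 2) ≤ q * (q - 1) := Nat.mul_le_mul (by omega) (by omega)
    _ ≤ 2 * r := by omega

theorem klein_false {T κ r : ℕ} (hκ : 3 ≤ κ) (hT : 2 * κ ≤ T + 1)
    (hr : (4 * T - 1) * (4 * T - 2) ≤ 2 * r) (hup : (κ - 1) * r * r ≤ 15 * κ ^ 3 * T ^ 2) : False := by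
  obtain ⟨k, rfl⟩ : ∃ k, κ = k + 3 := ⟨κ - 3, by omega⟩
  obtain ⟨t, rfl⟩ : ∃ t, T = t + 5 := ⟨T - 5, by omega⟩
  have hkt : 2 * k ≤ t := by omega
  rw [show 4 * (t + 5) - 1 = 4 * t + 19 by omega, show 4 * (t + 5) - 2 = 4 * t + 18 by omega] at hr
  rw [show k + 3 - 1 = k + 2 by omega] at hup
  have h6 : 6 * ((t + 5) * (t + 5)) ≤ r := by nlinarith
  have h7 : (k + 2) * (36 * ((t + 5) * (t + 5)) ^ 2) ≤ 15 * (k + 3) ^ 3 * (t + 5) ^ 2 := by
    refine le_trans ?_ hup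
    rw [mul_assoc]
    exact Nat.mul_le_mul_left _ (le_trans (le_of_eq (by ring)) (Nat.mul_le_mul h6 h6))
  have h8 : (k + 2) * (36 * (t + 5) ^ 2) ≤ 15 * (k + 3) ^ 3 := by
    refine Nat.le_of_mul_le_mul_right (c := (t + 5) ^ 2) (le_trans (le_of_eq (by ring)) h7) (by positivity)
  have h9 : (2 * k + 5) ^ 2 ≤ (t + 5) ^ 2 := Nat.pow_le_pow_left (by omega) 2
  nlinarith [Nat.mul_le_mul_left ((k + 2) * 36) h9]

/-- The bound when the second reflection centralises the fixed part. -/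
theorem fixed_false {T κ h r : ℕ} (hκ : 3 ≤ κ) (hT : 2 * κ ≤ T + 1) (hh : 2 ≤ h)
    (hr : (2 * h * T - 1) * (2 * h * T - 2) ≤ 2 * r)
    (hup : 4 * ((κ - 1) * r * r) ≤ 15 * κ * h ^ 2 * (κ * T + κ * T) ^ 2) : False := by
  obtain ⟨k, rfl⟩ : ∃ k, κ = k + 3 := ⟨κ - 3, by omega⟩
  obtain ⟨t, rfl⟩ : ∃ t, T = t + 5 := ⟨T - 5, by omega⟩
  have hkt : 2 * k ≤ t := by omega
  have hu : 10 * h ≤ h * (t + 5) * 2 := by nlinarith
  obtain ⟨e, he⟩ : ∃ e, 2 * h * (t + 5) = e + 2 := ⟨2 * h * (t + 5) - 2, by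
    have : 2 ≤ 2 * h * (t + 5) := by nlinarith
    omega⟩
  rw [he, show e + 2 - 1 = e + 1 by omega, show e + 2 - 2 = e by omega] at hr
  have h6 : 27 * (h * (t + 5)) * (h * (t + 5)) ≤ 16 * r := by nlinarith
  rw [show k + 3 - 1 = k + 2 by omega] at hup
  have h7 : (k + 2) * (729 * h ^ 2 * (t + 5) ^ 2) ≤ 15 * 4 * 64 * (k + 3) ^ 3 := by
    refine Nat.le_of_mul_le_mul_right (c := h ^ 2 * (t + 5) ^ 2) ?_ (by positivity)
    calc (k + 2) * (729 * h ^ 2 * (t + 5) ^ 2) * (h ^ 2 * (t + 5) ^ 2)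
        = (k + 2) * ((27 * (h * (t + 5)) * (h * (t + 5))) * (27 * (h * (t + 5)) * (h * (t + 5)))) := by ring
      _ ≤ (k + 2) * ((16 * r) * (16 * r)) := Nat.mul_le_mul_left _ (Nat.mul_le_mul h6 h6)
      _ = 64 * (4 * ((k + 2) * r * r)) := by ring
      _ ≤ 64 * (15 * (k + 3) * h ^ 2 * ((k + 3) * (t + 5) + (k + 3) * (t + 5)) ^ 2) :=
          Nat.mul_le_mul_left _ hup
      _ = _ := by ring
  have h9 : 4 * (2 * k + 5) ^ 2 ≤ h ^ 2 * (t + 5) ^ 2 :=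
    Nat.mul_le_mul (by nlinarith) (Nat.pow_le_pow_left (by omega) 2)
  nlinarith [Nat.mul_le_mul_left ((k + 2) * 729) h9]

/-- The bound when the second reflection inverts the fixed part: one set of parameters survives. -/
theorem moved_eq {T κ h r j : ℕ} (hκ : 3 ≤ κ) (hκo : Odd κ) (hTo : Odd T) (hT : 2 * κ ≤ T + 1)
    (hh : h = 2 ∨ 4 ≤ h) (hj : j ≤ T) (hr : (2 * h * T - 1) * (2 * h * T - 2) ≤ 2 * r)
    (hup : 4 * ((κ - 1) * r * r) ≤ 15 * κ * h ^ 2 * (κ * T + T * j) ^ 2) :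
    T = 5 ∧ κ = 3 ∧ h = 2 ∧ j = 5 := by
  have hu : 5 ≤ T := by omega
  obtain ⟨e, he⟩ : ∃ e, 2 * h * T = e + 2 := ⟨2 * h * T - 2, by
    have : 2 ≤ 2 * h * T := by rcases hh with rfl | hh <;> nlinarith
    omega⟩
  rw [he, show e + 2 - 1 = e + 1 by omega, show e + 2 - 2 = e by omega] at hr
  by_cases hbig : 7 ≤ T ∨ 4 ≤ h
  · exfalso
    have h6 : 107 * (h * T) * (h * T) ≤ 60 * r := by
      have : 14 ≤ h * T := by rcases hbig with hb | hb <;> rcases hh with rfl | hh <;> nlinarith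
      nlinarith
    have h7 : (κ - 1) * (107 * 107 * h ^ 2 * T ^ 2) ≤ 900 * 15 * κ * (κ + T) ^ 2 := by
      refine Nat.le_of_mul_le_mul_right (c := h ^ 2 * T ^ 2) ?_
        (Nat.mul_pos (by rcases hh with rfl | hh <;> positivity) (by positivity))
      calc (κ - 1) * (107 * 107 * h ^ 2 * T ^ 2) * (h ^ 2 * T ^ 2)
          = (κ - 1) * ((107 * (h * T) * (h * T)) * (107 * (h * T) * (h * T))) := by ring
        _ ≤ (κ - 1) * ((60 * r) * (60 * r)) := Nat.mul_le_mul_left _ (Nat.mul_le_mul h6 h6)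
        _ = 900 * (4 * ((κ - 1) * r * r)) := by ring
        _ ≤ 900 * (15 * κ * h ^ 2 * (κ * T + T * j) ^ 2) := Nat.mul_le_mul_left _ hup
        _ ≤ 900 * (15 * κ * h ^ 2 * (κ * T + T * T) ^ 2) := by gcongr
        _ = _ := by ring
    have hh2 : 4 ≤ h ^ 2 := by rcases hh with rfl | hh <;> nlinarith
    obtain ⟨k, rfl⟩ : ∃ k, κ = k + 3 := ⟨κ - 3, by omega⟩
    rw [show k + 3 - 1 = k + 2 by omega] at h7
    rcases hbig with hT7 | hh4
    · have h8 : (k + 2) * (45796 * T ^ 2) ≤ (k + 2) * (107 * 107 * h ^ 2 * T ^ 2) := by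
        refine Nat.mul_le_mul_left _ (Nat.mul_le_mul_right _ ?_)
        omega
      rcases Nat.eq_zero_or_pos k with rfl | hk
      · nlinarith
      · have hT9 : 2 * k + 5 ≤ T := by omega
        obtain ⟨m, hm⟩ := hκo
        have hk2 : 2 ≤ k := by omega
        have h10 : (9 * (k + 3 + T)) ^ 2 ≤ (14 * T) ^ 2 := Nat.pow_le_pow_left (by omega) 2
        have h11 : (k + 3) * (9 * (k + 3 + T)) ^ 2 ≤ (k + 3) * (14 * T) ^ 2 :=
          Nat.mul_le_mul_left _ h10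
        have h12 : (k + 2) * 3709476 * T ^ 2 ≤ (k + 3) * 2646000 * T ^ 2 := by linarith
        have h13 := Nat.le_of_mul_le_mul_right h12 (by positivity)
        omega
    · have h8 : (k + 2) * (183184 * T ^ 2) ≤ (k + 2) * (107 * 107 * h ^ 2 * T ^ 2) := by
        refine Nat.mul_le_mul_left _ (Nat.mul_le_mul_right _ ?_)
        nlinarith
      have h10 : (k + 3 + T) ^ 2 ≤ (2 * T) ^ 2 := Nat.pow_le_pow_left (by omega) 2
      have h11 : (k + 3) * (k + 3 + T) ^ 2 ≤ (k + 3) * (2 * T) ^ 2 := Nat.mul_le_mul_left _ h10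
      have h12 : (k + 2) * 183184 * T ^ 2 ≤ (k + 3) * 54000 * T ^ 2 := by linarith
      have h13 := Nat.le_of_mul_le_mul_right h12 (by positivity)
      omega
  push Not at hbig
  obtain ⟨m, hm⟩ := hTo
  obtain ⟨m', hm'⟩ := hκo
  have hT5 : T = 5 := by omega
  have hκ3 : κ = 3 := by omega
  have hh2 : h = 2 := by omega
  subst hT5 hκ3 hh2
  refine ⟨rfl, rfl, rfl, ?_⟩
  have he18 : e = 18 := by omega
  subst he18
  have hj5 : j ≤ 5 := hj
  by_contra hj'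
  have hj4 : j ≤ 4 := by omega
  have h1 : 171 ≤ r := by omega
  have h2 : (3 * 5 + 5 * j) ^ 2 ≤ 35 ^ 2 := Nat.pow_le_pow_left (by omega) 2
  nlinarith [Nat.mul_le_mul h1 h1]

/-- The last parameters. -/
theorem final_false {x : ℕ} {δ : ℤ} {q cl rL r iH iK : ℕ} (hcl : 20 ∣ cl) (hclpos : 0 < cl)
    (hclq : cl ≤ q + 1) (hrL : 2 * rL = q * (q - 1) ∨ 2 * rL = q * (q + 1)) (hr : rL ∣ r)
    (hrpos : 0 < r) (hup : 4 * ((3 - 1) * r * r) ≤ 15 * 3 * 2 ^ 2 * (3 * 5 + 5 * 5) ^ 2)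
    (hidx : iH * 3 = iK * r) (hcount : (3 - 1) * r ≤ iK) (hx : 1 ≤ x) (hδ : δ = 1 ∨ δ = -1)
    (h4 : (4 : ℤ) ∣ x - δ) (hne : (x : ℤ) ≠ δ)
    (hord : (iH : ℤ) * ((x : ℤ) - δ) ^ 2 = 12800 * ((x : ℤ) * (x + δ))) : False := by
  have hq : 19 ≤ q := by have := Nat.le_of_dvd hclpos hcl; omega
  have hrlt : r < 190 := by nlinarith
  have hrL' : rL ≤ r := Nat.le_of_dvd hrpos hr
  have hq19 : q = 19 := by
    by_contra hne'
    have : 20 * 19 ≤ q * (q - 1) := Nat.mul_le_mul (by omega) (by omega)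
    rcases hrL with h | h
    · omega
    · have : q * (q - 1) ≤ q * (q + 1) := Nat.mul_le_mul_left _ (by omega)
      omega
  subst hq19
  have hrL1 : rL = 171 := by omega
  subst hrL1
  obtain ⟨c, rfl⟩ := hr
  have hc : c = 1 := by omega
  subst hc
  have hlow : 19494 ≤ iH := by omega
  have hlow' : (19494 : ℤ) ≤ iH := by exact_mod_cast hlow
  have hx' : (1 : ℤ) ≤ x := by exact_mod_cast hx
  rcases hδ with rfl | rfl
  · rcases (show x = 5 ∨ 9 ≤ x by omega) with rfl | h9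
    · norm_num at hord; omega
    · have h9' : (9 : ℤ) ≤ x := by exact_mod_cast h9
      nlinarith [mul_nonneg (sub_nonneg.2 hlow') (sq_nonneg ((x : ℤ) - 1))]
  · nlinarith [mul_nonneg (sub_nonneg.2 hlow') (sq_nonneg ((x : ℤ) + 1))]

end CfsgLib.GW.Alpha
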