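import Cfsg.Agent.Lib.GW.Component.Alpha.Lines

/-!
The index of `N(Q)` is large, and the centralizers of the four-groups of a Sylow 2-subgroup of
`C(a)`.
-/

set_option autoImplicit false
set_option linter.unusedSectionVars false
set_option linter.style.haveILetI false

namespace CfsgLib.GW.Alpha

open Subgroup CfsgLib.Invol CfsgLib.BlockA.DihedralBlock

universe u

variable {G : Type u} [Group G] [Finite G]

theorem commute_klein {S : Type*} [Group S] (D : DihData S) {j : ℤ} {u : S}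
    (hu : Commute u (D.r ^ j * D.s)) : u ∈ D.klein j := by
  have hpos : (0 : ℤ) < D.h := by exact_mod_cast D.h_pos
  have key : ∀ e : ℤ, 2 * (D.h : ℤ) ∣ 2 * e → D.r ^ e = 1 ∨ D.r ^ e = D.z := by
    intro e he
    obtain ⟨c, rfl⟩ := Int.dvd_of_mul_dvd_mul_left (by norm_num : (2 : ℤ) ≠ 0) he
    rcases Int.even_or_odd' c with ⟨d, rfl | rfl⟩
    · exact Or.inl (D.zpow_eq_one_iff.2 ⟨d, by ring⟩)
    · exact Or.inr (D.zpow_eq_iff.2 ⟨-d, by ring⟩)
  rcases D.cases u with ⟨e, rfl⟩ | ⟨e, rfl⟩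
  · have h := D.conj_refl e j
    rw [hu.eq, mul_inv_cancel_right, mul_left_inj, D.zpow_eq_iff] at h
    rcases key e (by simpa using h) with h1 | h1
    · exact Or.inl h1
    · exact Or.inr (Or.inl h1)
  · have h := hu.eq
    rw [D.zy_mul_zy, D.zy_mul_zy, D.zpow_eq_iff] at h
    have h' : 2 * (D.h : ℤ) ∣ 2 * (e - j) := by
      obtain ⟨c, hc⟩ := h
      exact ⟨-c, by linarith⟩
    rcases key (e - j) h' with h1 | h1
    · refine Or.inr (Or.inr (Or.inl ?_))
      rw [show e = (e - j) + j by ring, zpow_add, h1, one_mul]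
    · refine Or.inr (Or.inr (Or.inr ?_))
      rw [show e = (e - j) + j by ring, zpow_add, h1, mul_assoc]

/-- The centralizer of a four-group of `S` is its common core times the four-group. -/
theorem card_centralizer_four (M : Min G) {a : G} (ha : orderOf a = 2) {S : Sylow 2 G}
    (D : DihData (S : Subgroup G)) (hz : dz S D = a) (hSc : (S : Subgroup G) ≤ cI a) (j : ℤ) :
    Nat.card (centralizer ({dz S D, dt S D j} : Set G)) =
      4 * Nat.card (coreC a ⊓ cI (dt S D j) : Subgroup G) := by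
  set t := dt S D j with ht
  have htc : t ∈ cI a := hSc (SetLike.coe_mem _)
  have ht2 : orderOf t = 2 := (Subgroup.orderOf_coe _).trans (D.orderOf_zy j)
  have heq : centralizer ({dz S D, t} : Set G) = cI a ⊓ cI t := by
    ext x
    constructor
    · intro hx
      exact mem_inf.2 ⟨mem_cI.2 (hz ▸ (mem_centralizer_iff.1 hx _ (Set.mem_insert _ _)).symm),
        mem_cI.2 (mem_centralizer_iff.1 hx t (Set.mem_insert_of_mem _ rfl)).symm⟩
    · intro hx
      refine mem_centralizer_iff.2 fun y hy => ?_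
      rcases hy with rfl | rfl
      · exact (mem_cI.1 (hz.symm ▸ hx.1 : x ∈ cI (dz S D))).symm
      · exact (mem_cI.1 hx.2).symm
  have hU : ∀ u ∈ dU S D j, u ∈ cI a ⊓ cI t ∧ u ∈ (S : Subgroup G) := by
    rintro _ ⟨w, hw, rfl⟩
    refine ⟨mem_inf.2 ⟨hSc w.2, mem_cI.2 ?_⟩, w.2⟩
    refine congrArg Subtype.val (?_ : w * (D.r ^ j * D.s) = (D.r ^ j * D.s) * w)
    rcases hw with rfl | rfl | rfl | rfl
    · rw [one_mul, mul_one]
    · exact (D.commute_z _).eq
    · rfl
    · exact ((D.commute_z _).mul_left (Commute.refl _)).eq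
  rw [heq, mul_comm 4, ← (dU_isKleinFour S D j).card_four, ← Nat.card_prod]
  symm
  refine Nat.card_congr (Equiv.ofBijective
    (fun ou => (⟨(ou.1 : G) * ou.2, mul_mem (mem_inf.2 ⟨coreC_le_cI a ou.1.2.1, ou.1.2.2⟩)
      (hU _ ou.2.2).1⟩ : (cI a ⊓ cI t : Subgroup G))) ⟨?_, fun x => ?_⟩)
  · rintro ⟨o, s⟩ ⟨o', s'⟩ he
    have he' : (o : G) * s = o' * s' := congrArg Subtype.val he
    have hd : (o' : G)⁻¹ * o = s' * (s : G)⁻¹ := by
      rw [eq_mul_inv_iff_mul_eq, mul_assoc, he', inv_mul_cancel_left]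
    obtain ⟨k, hk⟩ := S.2 ⟨_, mul_mem (hU _ s'.2).2 (inv_mem (hU _ s.2).2)⟩
    have h1 : (o' : G)⁻¹ * o = 1 := orderOf_eq_one_iff.1 (Nat.eq_one_of_dvd_coprimes
      ((Nat.coprime_two_right.2 (odd_coreC a)).pow_right k)
      (Subgroup.orderOf_dvd_natCard (coreC a) (mul_mem (inv_mem o'.2.1) o.2.1))
      (orderOf_dvd_of_pow_eq_one (by rw [hd]; exact congrArg Subtype.val hk)))
    rw [inv_mul_eq_one] at h1
    rw [← h1] at he'
    exact Prod.ext (Subtype.ext h1.symm) (Subtype.ext (mul_left_cancel he'))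
  · obtain ⟨o, ho, s, hs, he⟩ := exists_mul_sylow M ha hSc x.2.1
    have htx : t * (x : G) * t⁻¹ = x := by rw [← mem_cI.1 x.2.2, mul_inv_cancel_right]
    have htS : t ∈ (S : Subgroup G) := SetLike.coe_mem _
    have h2 : (o : G)⁻¹ * (t * o * t⁻¹) = s * (t * s * t⁻¹)⁻¹ := by
      rw [eq_mul_inv_iff_mul_eq, mul_assoc, show t * o * t⁻¹ * (t * s * t⁻¹) = t * (o * s) * t⁻¹ by
        group, ← he, htx, he, inv_mul_cancel_left]
    obtain ⟨k, hk⟩ := S.2 ⟨_, mul_mem hs (inv_mem (mul_mem (mul_mem htS hs) (inv_mem htS)))⟩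
    have h3 : (o : G)⁻¹ * (t * o * t⁻¹) = 1 := orderOf_eq_one_iff.1 (Nat.eq_one_of_dvd_coprimes
      ((Nat.coprime_two_right.2 (odd_coreC a)).pow_right k)
      (Subgroup.orderOf_dvd_natCard (coreC a) (mul_mem (inv_mem ho) (conj_mem_coreC htc ho)))
      (orderOf_dvd_of_pow_eq_one (by rw [h2]; exact congrArg Subtype.val hk)))
    have hot : Commute o t := by
      rw [inv_mul_eq_one] at h3
      exact (mul_inv_eq_iff_eq_mul.1 h3.symm).symm
    have hst : Commute s t := by
      rw [h3] at h2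
      exact (mul_inv_eq_iff_eq_mul.1 (mul_inv_eq_one.1 h2.symm).symm).symm
    have hsU : s ∈ dU S D j := ⟨⟨s, hs⟩, commute_klein D (Subtype.ext hst.eq), rfl⟩
    exact ⟨⟨⟨o, mem_inf.2 ⟨ho, mem_cI.2 hot.eq⟩⟩, ⟨s, hsU⟩⟩, Subtype.ext he.symm⟩

theorem card_coreC_inf_dt {a : G} {S : Sylow 2 G} (D : DihData (S : Subgroup G))
    (hSc : (S : Subgroup G) ≤ cI a) (j e : ℤ) :
    Nat.card (coreC a ⊓ cI (dt S D (j + 2 * e)) : Subgroup G) =
      Nat.card (coreC a ⊓ cI (dt S D j) : Subgroup G) := by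
  set x : G := ((D.r ^ e : (S : Subgroup G)) : G)
  have hx : x * dt S D j * x⁻¹ = dt S D (j + 2 * e) := congrArg Subtype.val (D.conj_refl e j)
  rw [← hx, ← cI_conj]
  conv_lhs => rw [show coreC a = (coreC a).map (MulAut.conj x).toMonoidHom by
    rw [coreC_conj, conj_eq_self (hSc (SetLike.coe_mem _))], ← map_inf _ _ _ (MulEquiv.injective _)]
  exact card_map_of_injective (MulEquiv.injective _)

namespace Ov

variable {a b g : G} {p : ℕ} (h : Ov a b g p)
include h

theorem card_cI {S : Sylow 2 G} (hSc : (S : Subgroup G) ≤ cI a) :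
    Nat.card (cI a) = Nat.card (coreC a) * Nat.card (S : Subgroup G) := by
  have h1 := card_inf_cI h.min h.ha hSc (L := ⊤) le_top
  rwa [top_inf_eq, top_inf_eq] at h1

/-- `[H : H ∩ K]` is the number of conjugates of the fixed part. -/
theorem relIndex_cI {S : Sylow 2 G} (hSc : (S : Subgroup G) ≤ cI a)
    (hSK : (S : Subgroup G) ≤ nQ a b p) : (nQ a b p).relIndex (cI a) = kapQ a b p := by
  have h1 := relIndex_mul_card' (inf_le_right : nQ a b p ⊓ cI a ≤ cI a)
  rw [inf_relIndex_right, card_inf_cI h.min h.ha hSc hSK, h.card_cI hSc, h.card_inf, ← h.kap_mul,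
    ← mul_assoc (kapQ a b p)] at h1
  have hpos : 0 < Nat.card h.tK * Nat.card (coreC a ⊓ cI b : Subgroup G) * Nat.card (S : Subgroup G) :=
    Nat.mul_pos (Nat.mul_pos Nat.card_pos Nat.card_pos) Nat.card_pos
  exact Nat.eq_of_mul_eq_mul_right hpos (by linarith)

theorem index_mul_relIndex {S : Sylow 2 G} (hSc : (S : Subgroup G) ≤ cI a)
    (hSK : (S : Subgroup G) ≤ nQ a b p) :
    (cI a).index * kapQ a b p = (nQ a b p).index * (nQ a b p ⊓ cI a).relIndex (nQ a b p) := by
  rw [← h.relIndex_cI hSc hSK, ← inf_relIndex_right (nQ a b p) (cI a), mul_comm,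
    relIndex_mul_index inf_le_right, mul_comm ((nQ a b p).index), relIndex_mul_index inf_le_left]

/-- **The index of `N(Q)` is large.** -/
theorem count : (kapQ a b p - 1) * (nQ a b p ⊓ cI a).relIndex (nQ a b p) ≤ (nQ a b p).index := by
  classical
  haveI := h.fact
  set K := nQ a b p with hK
  set O := coreC a
  obtain ⟨z, hz, hz1⟩ := (bot_or_exists_ne_one (qP a b p)).resolve_left h.ne
  let C := K ⧸ (K ⊓ cI a).subgroupOf K
  let D := {c : O ⧸ K.subgroupOf O // c ≠ QuotientGroup.mk 1}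
  have hD : Nat.card D = kapQ a b p - 1 := by
    have := Fintype.ofFinite (O ⧸ K.subgroupOf O)
    rw [Nat.card_eq_fintype_card, Fintype.card_subtype_compl, Fintype.card_subtype_eq,
      ← Nat.card_eq_fintype_card, ← index_eq_card]
  have hnot : ∀ c : D, ((c.1.out : O) : G) ∉ K := fun c hc => c.2 (by
    rw [← c.1.out_eq]
    exact (QuotientGroup.eq.2 (mem_subgroupOf.2 (by simpa using hc))).symm)
  let f : D × C → G ⧸ K := fun x =>
    QuotientGroup.mk (((x.2.out : K) : G) * ((x.1.1.out : O) : G))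
  have hf : Function.Injective f := by
    rintro ⟨c, m⟩ ⟨c', m'⟩ he
    set o := ((c.1.out : O) : G)
    set o' := ((c'.1.out : O) : G)
    set n := ((m.out : K) : G)⁻¹ * ((m'.out : K) : G)
    have hk : o⁻¹ * n * o' ∈ K := by
      have h1 := QuotientGroup.eq.1 he
      convert h1 using 1
      simp only [o, o', n]
      group
    set k := o⁻¹ * n * o'
    have hnK : n ∈ K := mul_mem (inv_mem (SetLike.coe_mem _)) (SetLike.coe_mem _)
    set w := o' * z * o'⁻¹
    have hwZ : w ∈ zP a p := conj_mem_zP (coreC_le_cI a (SetLike.coe_mem _)) hz.1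
    have hwQ : w ∉ qP a b p := fun hw => hnot c' (h.mem_of_conj_mem hz hz1 hw)
    have hZ : zP a p = qP a b p ⊔ zpowers w := by
      refine (eq_of_le_of_card_ge (sup_le qP_le_zP (zpowers_le.2 hwZ)) ?_).symm
      have hlt : qP a b p < qP a b p ⊔ zpowers w := lt_of_le_of_ne le_sup_left fun e =>
        hwQ (e.symm.le (mem_sup_right (mem_zpowers w)))
      obtain ⟨i, hi⟩ := ((isPGroup_fitP a p).to_le ((sup_le qP_le_zP (zpowers_le.2 hwZ)).trans
        (zP_le_fitP a p))).exists_card_eq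
      have hne : Nat.card (qP a b p) ≠ Nat.card (qP a b p ⊔ zpowers w : Subgroup G) := fun e =>
        hlt.ne (eq_of_le_of_card_ge le_sup_left e.ge)
      have hle := Nat.le_of_dvd Nat.card_pos (card_dvd_of_le (le_sup_left :
        qP a b p ≤ qP a b p ⊔ zpowers w))
      rw [h.card_qP, hi] at hne hle
      rw [h.card_zP', hi, ← pow_two]
      refine Nat.pow_le_pow_right h.mixed.hp.pos ?_
      rcases i with _ | _ | i
      · have := h.mixed.hp.two_le; simp at hle; omega
      · simp at hne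
      · omega
    have hnH : n ∈ cI a := by
      rw [← h.normalizer_zP]
      refine mem_normalizer_iff_of_finite fun x hx => ?_
      have hle : zP a p ≤ (zP a p).comap (MulAut.conj n).toMonoidHom := by
        refine hZ.le.trans (sup_le (fun q hq => ?_) (zpowers_le.2 ?_))
        · exact mem_comap.2 (qP_le_zP (b := b) ((mem_normalizer_iff.1 hnK q).1 hq))
        · refine mem_comap.2 ?_
          show n * (o' * z * o'⁻¹) * n⁻¹ ∈ zP a p
          rw [show n * (o' * z * o'⁻¹) * n⁻¹ = o * (k * z * k⁻¹) * o⁻¹ by simp only [k]; group]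
          exact conj_mem_zP (coreC_le_cI a (SetLike.coe_mem _))
            (qP_le_zP ((mem_normalizer_iff.1 hk z).1 hz))
      exact mem_comap.1 (hle hx)
    have hm : m = m' := by
      rw [← m.out_eq, ← m'.out_eq]
      exact QuotientGroup.eq.2 (mem_subgroupOf.2 ⟨hnK, hnH⟩)
    subst hm
    have hc : c = c' := by
      refine Subtype.ext ?_
      rw [← c.1.out_eq, ← c'.1.out_eq]
      refine QuotientGroup.eq.2 (mem_subgroupOf.2 ?_)
      simpa [k, n] using hk
    exact Prod.ext hc rfl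
  have h1 := Nat.card_le_card_of_injective f hf
  rwa [Nat.card_prod, hD, ← index_eq_card, ← index_eq_card] at h1

end Ov

end CfsgLib.GW.Alpha
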