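import Cfsg.Agent.Lib.GW.Component.Alpha.Setup

/-!
An element of `O(C(a))` inverted by `b` which centralises the inverted part of `F(O(C(a)))` lies in
`F(O(C(a)))`.
-/

set_option autoImplicit false
set_option linter.unusedSectionVars false
set_option linter.style.haveILetI false

namespace CfsgLib.GW.Alpha

open Subgroup CfsgLib.Invol
open scoped commutatorElement

universe u

variable {G : Type u} [Group G] [Finite G]

/-- A subgroup of `O(C(a))` normalised by it, acting trivially on `Y` and on `F/Y`, is in `F`. -/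
theorem le_fitC_of_series {a : G} {A Y : Subgroup G} (hA : A ≤ coreC a)
    (hAn : coreC a ≤ normalizer (A : Set G)) (hYab : ∀ x ∈ Y, ∀ y ∈ Y, Commute x y)
    (hY : ∀ g ∈ A, ∀ y ∈ Y, Commute g y)
    (hF : ∀ g ∈ A, ∀ x ∈ fitC a, g * x * g⁻¹ * x⁻¹ ∈ Y) : A ≤ fitC a := by
  haveI : Group.IsSolvable (coreC a) := CfsgLib.FT.odd_order_solvable (odd_coreC a)
  have hcomm : ∀ g ∈ A, ∀ g' ∈ A, ⁅g, g'⁆ ∈ fitC a := by
    intro g hg g' hg'
    have hc : ∀ x ∈ fitC a, Commute ⁅g, g'⁆ x := by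
      intro x hx
      have key : ∀ g ∈ A, ∀ g' ∈ A, g * g' * x * (g * g')⁻¹ =
          (g' * x * g'⁻¹ * x⁻¹) * (g * x * g⁻¹ * x⁻¹) * x := by
        intro g hg g' hg'
        calc g * g' * x * (g * g')⁻¹ = g * ((g' * x * g'⁻¹ * x⁻¹) * x) * g⁻¹ := by group
          _ = (g * (g' * x * g'⁻¹ * x⁻¹) * g⁻¹) * (g * x * g⁻¹ * x⁻¹) * x := by group
          _ = _ := by rw [(hY g hg _ (hF g' hg' x hx)).eq, mul_inv_cancel_right]
      have e3 : g⁻¹ * g'⁻¹ * x * (g⁻¹ * g'⁻¹)⁻¹ = g'⁻¹ * g⁻¹ * x * (g'⁻¹ * g⁻¹)⁻¹ := by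
          rw [key _ (inv_mem hg) _ (inv_mem hg'), key _ (inv_mem hg') _ (inv_mem hg),
            (hYab _ (hF _ (inv_mem hg') x hx) _ (hF _ (inv_mem hg) x hx)).eq]
      show ⁅g, g'⁆ * x = x * ⁅g, g'⁆
      rw [commutatorElement_def]
      calc g * g' * g⁻¹ * g'⁻¹ * x = g * g' * (g⁻¹ * g'⁻¹ * x * (g⁻¹ * g'⁻¹)⁻¹) * (g⁻¹ * g'⁻¹) := by
              group
          _ = g * g' * (g'⁻¹ * g⁻¹ * x * (g'⁻¹ * g⁻¹)⁻¹) * (g⁻¹ * g'⁻¹) := by rw [e3]
          _ = x * (g * g' * g⁻¹ * g'⁻¹) := by group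
    have hmem : ⁅g, g'⁆ ∈ coreC a :=
      mul_mem (mul_mem (mul_mem (hA hg) (hA hg')) (inv_mem (hA hg))) (inv_mem (hA hg'))
    exact ⟨⟨_, hmem⟩, CfsgLib.Solvable.centralizer_fittingSubgroup_le (mem_centralizer_iff.2
      fun f hf => Subtype.ext (hc f ⟨f, hf, rfl⟩).eq.symm), rfl⟩
  have h2 : ∀ f ∈ fitC a, ∀ g ∈ A, ⁅f, g⁆ ∈ Y := by
    intro f hf g hg
    rw [← commutatorElement_inv, commutatorElement_def]
    exact inv_mem (hF g hg f hf)
  have hnil : Group.IsNilpotent A := by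
    refine Subgroup.isNilpotent_of_lowerCentralSeries_eq_bot (n := 3) ?_
    have l1 : A.lowerCentralSeries 1 ≤ fitC a := by
      rw [Subgroup.lowerCentralSeries_succ, Subgroup.lowerCentralSeries_zero, commutator_le]
      exact fun g hg g' hg' => hcomm g hg g' hg'
    have l2 : A.lowerCentralSeries 2 ≤ Y := by
      rw [Subgroup.lowerCentralSeries_succ, commutator_le]
      exact fun f hf g hg => h2 f (l1 hf) g hg
    rw [eq_bot_iff, Subgroup.lowerCentralSeries_succ, commutator_le]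
    exact fun y hy g hg => mem_bot.2
      (commutatorElement_eq_one_iff_mul_comm.2 (hY g hg y (l2 hy)).symm.eq)
  rw [← map_subgroupOf_eq_of_le hA]
  refine map_mono (CfsgLib.Solvable.le_fittingSubgroup (normal_subgroupOf_of_le_normalizer hAn) ?_)
  haveI := hnil
  exact Group.nilpotent_of_mulEquiv (subgroupOfEquivOfLe hA).symm

namespace Ov

variable {a b g : G} {p : ℕ} (h : Ov a b g p)
include h

theorem W_conj_tK {w t : G} (hw : w ∈ coreC a ⊓ cI b) (ht : t ∈ h.tK) : w * t * w⁻¹ ∈ h.tK := by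
  refine ⟨mul_mem (mul_mem (h.W_le hw) ht.1) (inv_mem (h.W_le hw)), ?_⟩
  have e : Commute b w := (mem_cI.1 hw.2).symm
  calc b * (w * t * w⁻¹) * b⁻¹ = (b * w * b⁻¹) * (b * t * b⁻¹) * (b * w * b⁻¹)⁻¹ := by group
    _ = (w * t * w⁻¹)⁻¹ := by rw [e.eq, mul_inv_cancel_right, ht.2]; group

/-- The inverted part of `F(O(C(a)))`. -/
abbrev yF : Subgroup G := fitC a ⊓ h.tK

theorem W_conj_yF {w t : G} (hw : w ∈ coreC a ⊓ cI b) (ht : t ∈ h.yF) : w * t * w⁻¹ ∈ h.yF :=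
  ⟨conj_mem_fitC (coreC_le_cI a hw.1) ht.1, h.W_conj_tK hw ht.2⟩

/-- An inverted element centralising the inverted part of `F(O(C(a)))` lies in it. -/
theorem mem_fitC_of_commute {r : G} (hr : r ∈ coreC a) (hri : b * r * b⁻¹ = r⁻¹)
    (hrY : ∀ y ∈ h.yF, Commute r y) (hn : coreC a ≤ normalizer (h.yF : Set G)) : r ∈ fitC a := by
  let A : Subgroup G :=
    { carrier := {g | g ∈ coreC a ∧ (∀ y ∈ h.yF, Commute g y) ∧
        ∀ x ∈ fitC a, g * x * g⁻¹ * x⁻¹ ∈ h.yF}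
      one_mem' := ⟨one_mem _, fun y _ => Commute.one_left y, fun x _ => by simp⟩
      mul_mem' := fun {g g'} hg hg' => ⟨mul_mem hg.1 hg'.1,
        fun y hy => (hg.2.1 y hy).mul_left (hg'.2.1 y hy), fun x hx => by
          have e : g * g' * x * (g * g')⁻¹ * x⁻¹ =
              (g * (g' * x * g'⁻¹ * x⁻¹) * g⁻¹) * (g * x * g⁻¹ * x⁻¹) := by group
          rw [e, (hg.2.1 _ (hg'.2.2 x hx)).eq, mul_inv_cancel_right]
          exact mul_mem (hg'.2.2 x hx) (hg.2.2 x hx)⟩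
      inv_mem' := fun {g} hg => ⟨inv_mem hg.1, fun y hy => (hg.2.1 y hy).inv_left, fun x hx => by
        have e : g⁻¹ * x * g⁻¹⁻¹ * x⁻¹ = (g⁻¹ * (g * x * g⁻¹ * x⁻¹) * g)⁻¹ := by group
        rw [e, ((hg.2.1 _ (hg.2.2 x hx)).inv_left).eq, inv_mul_cancel_right]
        exact inv_mem (hg.2.2 x hx)⟩ }
  have hmemA : ∀ g : G, g ∈ A ↔ g ∈ coreC a ∧ (∀ y ∈ h.yF, Commute g y) ∧
      ∀ x ∈ fitC a, g * x * g⁻¹ * x⁻¹ ∈ h.yF := fun g => Iff.rfl
  have hAn : coreC a ≤ normalizer (A : Set G) := fun o ho =>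
    mem_normalizer_iff_of_finite fun g hg => by
      obtain ⟨hg1, hg2, hg3⟩ := (hmemA g).1 hg
      refine (hmemA _).2 ⟨mul_mem (mul_mem ho hg1) (inv_mem ho), fun y hy => ?_, fun x hx => ?_⟩
      · have hy' : o⁻¹ * y * o ∈ h.yF := by
          simpa using (mem_normalizer_iff.1 (hn (inv_mem ho)) y).1 hy
        have := (hg2 _ hy').map (MulAut.conj o).toMonoidHom
        simpa [MulAut.conj_apply, mul_assoc] using this
      · have hx' : o⁻¹ * x * o ∈ fitC a := by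
          simpa using conj_mem_fitC (inv_mem (coreC_le_cI a ho)) hx
        have := (mem_normalizer_iff.1 (hn ho) _).1 (hg3 _ hx')
        convert this using 1
        group
  have hA : A ≤ fitC a := le_fitC_of_series (fun g hg => ((hmemA g).1 hg).1) hAn
    (Y := h.yF) (fun x hx y hy => h.tK_comm hx.2 hy.2) (fun g hg => ((hmemA g).1 hg).2.1)
    fun g hg => ((hmemA g).1 hg).2.2
  have hrr : r * r ∈ A := by
    refine (hmemA _).2 ⟨mul_mem hr hr, fun y hy => (hrY y hy).mul_left (hrY y hy), fun x hx => ?_⟩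
    have hsplit : ∀ x ∈ fitC a, ∃ w y : G, w ∈ coreC a ⊓ cI b ∧ y ∈ h.yF ∧ x = w * y := by
      intro x hx
      obtain ⟨w, v, hw, hv, rfl, hwb, hvb⟩ := exists_fixed_mul_inv
        ((odd_coreC a).of_dvd_nat (card_dvd_of_le (fitC_le_coreC a))) (invol_mul_self h.hb)
        (fun x hx => conj_mem_fitC h.b_mem_cI hx) hx
      exact ⟨w, v, ⟨fitC_le_coreC a hw, mem_cI.2 hwb.eq.symm⟩,
        ⟨hv, ⟨h.fitC_le_nQ hv, fitC_le_coreC a hv⟩, hvb⟩, rfl⟩
    obtain ⟨w, y, hw, hy, rfl⟩ := hsplit x hx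
    have hwF : w ∈ fitC a := by
      have := mul_mem hx (inv_mem hy.1)
      rwa [mul_inv_cancel_right] at this
    obtain ⟨w', y', hw', hy', he⟩ := hsplit _ (conj_mem_fitC (coreC_le_cI a hr) hwF)
    have hbw : Commute b w := (mem_cI.1 hw.2).symm
    have hbw' : Commute b w' := (mem_cI.1 hw'.2).symm
    have e1 : r⁻¹ * w * r = w' * y'⁻¹ := by
      calc r⁻¹ * w * r = (b * r * b⁻¹) * (b * w * b⁻¹) * (b * r * b⁻¹)⁻¹ := by
            rw [hri, hbw.eq, mul_inv_cancel_right, inv_inv]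
        _ = b * (r * w * r⁻¹) * b⁻¹ := by group
        _ = (b * w' * b⁻¹) * (b * y' * b⁻¹) := by rw [he]; group
        _ = w' * y'⁻¹ := by rw [hbw'.eq, mul_inv_cancel_right, hy'.2.2]
    have hry : r * y'⁻¹ * r⁻¹ = y'⁻¹ := by
      rw [(hrY y' hy').inv_right.eq, mul_inv_cancel_right]
    have e2 : r * w' * r⁻¹ = w * y' := by
      have : w = r * w' * r⁻¹ * (r * y'⁻¹ * r⁻¹) := by
        calc w = r * (r⁻¹ * w * r) * r⁻¹ := by group
          _ = r * (w' * y'⁻¹) * r⁻¹ := by rw [e1]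
          _ = _ := by group
      rw [hry] at this
      exact (mul_inv_eq_iff_eq_mul.1 this.symm)
    have e3 : r * r * w * (r * r)⁻¹ = w * (y' * y') := by
      calc r * r * w * (r * r)⁻¹ = r * (r * w * r⁻¹) * r⁻¹ := by group
        _ = (r * w' * r⁻¹) * (r * y' * r⁻¹) := by rw [he]; group
        _ = _ := by rw [e2, (hrY y' hy').eq, mul_inv_cancel_right, mul_assoc]
    have hy2 : r * r * y * (r * r)⁻¹ = y := by
      rw [((hrY y hy).mul_left (hrY y hy)).eq, mul_inv_cancel_right]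
    have e4 : r * r * (w * y) * (r * r)⁻¹ * (w * y)⁻¹ = w * (y' * y') * w⁻¹ := by
      calc r * r * (w * y) * (r * r)⁻¹ * (w * y)⁻¹
          = (r * r * w * (r * r)⁻¹) * (r * r * y * (r * r)⁻¹) * y⁻¹ * w⁻¹ := by group
        _ = _ := by rw [e3, hy2, mul_inv_cancel_right]
    rw [e4]
    exact h.W_conj_yF hw (mul_mem hy' hy')
  obtain ⟨n, hn'⟩ := exists_sq_root (odd_orderOf_mem_coreC hr)
  refine hA ?_
  rw [← hn', ← (Commute.refl r).mul_pow]
  exact pow_mem hrr n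

end Ov

end CfsgLib.GW.Alpha
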