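import Cfsg.Agent.Lib.GW.Component.Alpha.Shape

/-!
The two cases for a nonsolvable quotient `K/O(K)` seen from an involution `a`, and the size of the
class of a central involution.
-/

set_option autoImplicit false
set_option linter.unusedSectionVars false
set_option linter.style.haveILetI false
set_option maxHeartbeats 1000000

namespace CfsgLib.GW.Alpha

open Subgroup CfsgLib.Invol CfsgLib.BlockA.DihedralBlock
open scoped MatrixGroups

universe u

variable {G : Type u} [Group G] [Finite G]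

/-- Lagrange for two nested subgroups. -/
theorem relIndex_mul_card' {H : Type*} [Group H] {A B : Subgroup H} (h : A ≤ B) :
    A.relIndex B * Nat.card A = Nat.card B := by
  rw [← Nat.card_congr (subgroupOfEquivOfLe h).toEquiv]
  exact index_mul_card _

/-- The subgroups `V` of the odd part of `C_K(a)` avoiding the core embed in the quotient. -/
theorem card_map_of_disjoint {K : Subgroup G} {V : Subgroup G} (hV : V ≤ K)
    (hd : V ⊓ coreK K = ⊥) :
    Nat.card ((V.subgroupOf K).map (QuotientGroup.mk' (Cfsg.oddCore ↥K))) = Nat.card V := by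
  set f := (QuotientGroup.mk' (Cfsg.oddCore ↥K)).comp (inclusion hV)
  have hf : Function.Injective f := (injective_iff_map_eq_one f).2 fun v hv => by
    have h : (v : G) ∈ V ⊓ coreK K := mem_inf.2 ⟨v.2, mem_coreK (x := inclusion hV v) |>.2 hv⟩
    rw [hd, mem_bot] at h
    exact Subtype.ext h
  have he : (V.subgroupOf K).map (QuotientGroup.mk' (Cfsg.oddCore ↥K)) = f.range := by
    rw [MonoidHom.range_comp, inclusion_range]
  rw [he, ← Nat.card_congr (MonoidHom.ofInjective hf).toEquiv]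

/-- Either `K/O(K)` is generated by the class of `a` and has small torus (`A₇`), or the involutions
commuting with `a` invert the inverted elements of `C_K(a)` modulo the core. -/
theorem alt_or_inverts (M : Min G) {K : Subgroup G} (hK : K ≠ ⊤) {a : G} (ha : orderOf a = 2)
    (haK : a ∈ K) :
    ((∀ k ∈ K, ∀ H : Subgroup G, (∀ c ∈ K, c * a * c⁻¹ ∈ H) → ∃ o ∈ coreK K, k * o ∈ H) ∧
      ∀ V : Subgroup G, V ≤ K ⊓ coreC a → V ⊓ coreK K = ⊥ → Nat.card V ∣ 3) ∨
    ∀ j ∈ K, orderOf j = 2 → Commute j a → j ≠ a → ∀ i ∈ K, orderOf i = 2 →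
      ∀ x ∈ K ⊓ coreC a, i * x * i⁻¹ = x⁻¹ → j * x * j⁻¹ * x ∈ coreK K := by
  classical
  by_cases hs : Group.IsSolvable K
  · refine Or.inr fun j hj _ _ _ i _ _ x hx _ => ?_
    have h0 : x ∈ coreK K := by
      by_contra h0
      exact not_solvable_of_commute M ha haK hx.1 (odd_orderOf_mem_coreC hx.2)
        (mem_cI.1 (coreC_le_cI a hx.2)) h0 hs
    exact mul_mem (conj_mem_coreK hj h0) h0
  set π := QuotientGroup.mk' (Cfsg.oddCore ↥K) with hπ
  set A := π ⟨a, haK⟩ with hAdef
  have hA : orderOf A = 2 := orderOf_mk'_invol (by rw [orderOf_mk, ha])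
  rcases M.shape_cases hK hs with ⟨⟨e⟩⟩ | ⟨T, E, L, hLn, F, iF, iFt, hodd, hq, hC, ⟨e⟩⟩
  · refine Or.inl ⟨fun k hk H hH => ?_, fun V hV hd => ?_⟩
    · haveI : IsSimpleGroup (alternatingGroup (Fin 7)) := alternatingGroup.isSimpleGroup (by simp)
      haveI : IsSimpleGroup (↥K ⧸ Cfsg.oddCore ↥K) := e.isSimpleGroup
      set N := normalClosure ({⟨a, haK⟩} : Set K) with hN
      have htop : N.map π = ⊤ := by
        rw [hN, map_normalClosure _ _ (QuotientGroup.mk'_surjective _), Set.image_singleton]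
        refine (IsSimpleGroup.eq_bot_or_eq_top_of_normal _ inferInstance).resolve_left fun h => ?_
        have hA1 : A ∈ normalClosure ({π ⟨a, haK⟩} : Set (↥K ⧸ Cfsg.oddCore ↥K)) :=
          subset_normalClosure rfl
        rw [h, mem_bot] at hA1
        exact invol_ne_one hA hA1
      obtain ⟨l, hl, hlk⟩ : π ⟨k, hk⟩ ∈ N.map π := htop ▸ mem_top _
      have hNH : N ≤ H.subgroupOf K := by
        refine (closure_le _).2 fun x hx => ?_
        obtain ⟨a', ha', hconj⟩ := Group.mem_conjugatesOfSet_iff.1 hx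
        rw [Set.mem_singleton_iff.1 ha'] at hconj
        obtain ⟨c, rfl⟩ := isConj_iff.1 hconj
        exact mem_subgroupOf.2 (hH c c.2)
      refine ⟨(((⟨k, hk⟩ : K)⁻¹ * l : K) : G), mem_coreK.2 (by rw [map_mul, map_inv, hlk, inv_mul_cancel]), ?_⟩
      show k * (k⁻¹ * (l : G)) ∈ H
      rw [mul_inv_cancel_left]
      exact mem_subgroupOf.1 (hNH hl)
    · set V' := (V.subgroupOf K).map π with hV'
      have hle : V'.map e.toMonoidHom ≤ centralizer ({e A} : Set (alternatingGroup (Fin 7))) := by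
        rintro _ ⟨_, ⟨v, hv, rfl⟩, rfl⟩
        refine mem_centralizer_singleton_iff.2 ((commute_map ?_).map e.toMonoidHom).eq
        exact mem_cI.1 (coreC_le_cI a (hV hv).2)
      have hc : Nat.card (V'.map e.toMonoidHom) = Nat.card V := by
        rw [card_map_of_injective (f := e.toMonoidHom) e.injective,
          card_map_of_disjoint (hV.trans inf_le_left) hd]
      have h1 : Nat.card V ∣ 24 := by
        rw [← hc, ← card_centralizer_alt_seven (t := e A) (by rw [MulEquiv.orderOf_eq, hA])]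
        exact card_dvd_of_le hle
      have h2 : Odd (Nat.card V) := (odd_coreC a).of_dvd_nat (card_dvd_of_le (hV.trans inf_le_right))
      exact ((Nat.coprime_two_right.2 h2).pow_right 3).dvd_of_dvd_mul_left (show _ ∣ 2 ^ 3 * 3 from h1)
  · refine Or.inr fun j hj hj2 hja hne i hi hi2 x hx hix => ?_
    obtain ⟨P, χ, hχ, -, -, -, hinv, hconjinv⟩ := exists_linear hodd T E L e hC
    set J := π ⟨j, hj⟩ with hJdef
    set X := π ⟨x, hx.1⟩ with hXdef
    have hJ : orderOf J = 2 := orderOf_mk'_invol (by rw [orderOf_mk, hj2])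
    have hoX : Odd (orderOf X) := odd_map π (by rw [orderOf_mk]; exact odd_orderOf_mem_coreC hx.2)
    have hXP : X ∈ P := hconjinv _ (π ⟨i, hi⟩) hoX (by
      rw [← map_inv, ← map_mul, ← map_mul, ← map_inv]; exact congrArg π (Subtype.ext hix))
    have hne' : J ≠ A := mk'_ne_of_commute (by rw [orderOf_mk, hj2]) (by rw [orderOf_mk, ha])
      (Subtype.ext hja.eq) (fun h => hne (congrArg Subtype.val h))
    have hc := PGL.inverts_of_commute hodd (a := χ ⟨A, hinv _ hA⟩) (j := χ ⟨J, hinv _ hJ⟩)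
      (x := χ ⟨X, hXP⟩) (by rw [orderOf_injective χ hχ, orderOf_mk, hA])
      (by rw [orderOf_injective χ hχ, orderOf_mk, hJ])
      (fun h => hne' (congrArg Subtype.val (hχ h)))
      ((show Commute (⟨J, hinv _ hJ⟩ : P) ⟨A, hinv _ hA⟩ from Subtype.ext (commute_map hja).eq).map χ)
      ((show Commute (⟨X, hXP⟩ : P) ⟨A, hinv _ hA⟩ from Subtype.ext (commute_map
        (show Commute x a from mem_cI.1 (coreC_le_cI a hx.2))).eq).map χ)
      (by rw [orderOf_injective χ hχ, orderOf_mk]; exact hoX)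
    rw [← map_inv, ← map_mul, ← map_mul, ← map_inv] at hc
    have h1 : J * X * J⁻¹ = X⁻¹ := congrArg Subtype.val (hχ hc)
    refine mem_coreK (x := (⟨j, hj⟩ : K) * ⟨x, hx.1⟩ * (⟨j, hj⟩ : K)⁻¹ * ⟨x, hx.1⟩) |>.2 ?_
    rw [map_mul, map_mul, map_mul, map_inv, h1, inv_mul_cancel]

/-- **The size of the class of a central involution.** If the inverted part is not of order
three, the quotient is linear and the class is large. -/
theorem exists_size (M : Min G) {K : Subgroup G} (hK : K ≠ ⊤) {a b : G} (ha : orderOf a = 2)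
    (haK : a ∈ K) (hbK : b ∈ K) (hcore : coreK K ≤ cI a)
    (S : Sylow 2 G) (D : DihData (S : Subgroup G)) (hSK : (S : Subgroup G) ≤ K)
    (hz : dz S D = a) {V : Subgroup G} (hV : V ≤ K ⊓ coreC a) (hd : V ⊓ coreK K = ⊥)
    (hinvV : ∀ v ∈ V, b * v * b⁻¹ = v⁻¹) (h3 : ¬ Nat.card V ∣ 3) :
    ∃ q cl rL : ℕ, 0 < cl ∧ 4 * Nat.card V ∣ cl ∧ 2 * D.h * Nat.card V ∣ cl ∧ cl ≤ q + 1 ∧
      (2 * rL = q * (q - 1) ∨ 2 * rL = q * (q + 1)) ∧ rL ∣ (K ⊓ cI a).relIndex K := by
  classical
  haveI : Fact (Nat.Prime 2) := ⟨Nat.prime_two⟩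
  have hns : ¬ Group.IsSolvable K := by
    intro hs
    refine h3 ?_
    have : V = ⊥ := (eq_bot_iff_forall _).2 fun v hv => by
      by_contra hv1
      refine not_solvable_of_commute M ha haK (hV hv).1 (odd_orderOf_mem_coreC (hV hv).2)
        (mem_cI.1 (coreC_le_cI a (hV hv).2)) (fun h => hv1 ?_) hs
      exact mem_bot.1 (hd ▸ mem_inf.2 ⟨hv, h⟩)
    rw [this, card_bot]; exact one_dvd 3
  set π := QuotientGroup.mk' (Cfsg.oddCore ↥K) with hπ
  set A := π ⟨a, haK⟩ with hAdef
  have hA : orderOf A = 2 := orderOf_mk'_invol (by rw [orderOf_mk, ha])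
  set V' := (V.subgroupOf K).map π with hV'
  have hcV : Nat.card V' = Nat.card V := card_map_of_disjoint (hV.trans inf_le_left) hd
  have hoddV : Odd (Nat.card V) := (odd_coreC a).of_dvd_nat (card_dvd_of_le (hV.trans inf_le_right))
  have hVA : ∀ v ∈ V', Commute v A := by
    rintro _ ⟨v, hv, rfl⟩
    exact commute_map (show Commute (v : G) a from mem_cI.1 (coreC_le_cI a (hV hv).2))
  rcases M.shape_cases hK hns with ⟨⟨e⟩⟩ | ⟨T0, E0, L, hLn, F, iF, iFt, hodd, hq, hC, ⟨e⟩⟩
  · refine absurd ?_ h3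
    have hle : V'.map e.toMonoidHom ≤ centralizer ({e A} : Set (alternatingGroup (Fin 7))) := by
      rintro _ ⟨v, hv, rfl⟩
      exact mem_centralizer_singleton_iff.2 ((hVA v hv).map e.toMonoidHom).eq
    have h1 : Nat.card V ∣ 24 := by
      rw [← hcV, ← card_map_of_injective (K := V') (f := e.toMonoidHom) e.injective,
        ← card_centralizer_alt_seven (t := e A) (by rw [MulEquiv.orderOf_eq, hA])]
      exact card_dvd_of_le hle
    exact ((Nat.coprime_two_right.2 hoddV).pow_right 3).dvd_of_dvd_mul_left (show _ ∣ 2 ^ 3 * 3 from h1)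
  have := CfsgLib.Geom.Moebius.finite_pgl_two (F := F)
  haveI := CfsgLib.ClassK.isSimpleGroup_psl_two (F := F) hq
  haveI : IsSimpleGroup L := e.isSimpleGroup
  have hLns : ¬ Group.IsSolvable L := by
    intro hs
    haveI := hs
    haveI : Nontrivial L := IsSimpleGroup.toNontrivial
    have hcomm : ∀ x y : L, x * y = y * x := IsSimpleGroup.comm_iff_isSolvable.2 hs
    obtain ⟨t, ht⟩ := exists_prime_orderOf_dvd_card' (G := L) 2 (by
      have h := CfsgLib.Geom.Moebius.card_imL_two (F := F)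
      rw [CfsgLib.Geom.Moebius.gcd_two_of_odd hodd,
        ← Nat.card_congr (MonoidHom.ofInjective Matrix.ProjectiveSpecialLinearGroup.toPGL_injective).toEquiv,
        ← Nat.card_congr e.toEquiv] at h
      obtain ⟨m, hm⟩ := hodd
      rw [hm, show 2 * m + 1 - 1 = 2 * m by omega, show 2 * m + 1 + 1 = 2 * (m + 1) by ring] at h
      exact ⟨(m + 1) * ((2 * m + 1) * m) / 1, by rw [Nat.div_one]; nlinarith⟩)
    have hall : centralizer ({e t} : Set (Matrix.ProjectiveSpecialLinearGroup (Fin 2) F)) = ⊤ := by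
      refine eq_top_iff.2 fun x _ => mem_centralizer_singleton_iff.2 ?_
      obtain ⟨x, rfl⟩ := e.surjective x
      rw [← map_mul, ← map_mul, hcomm]
    have h3' := CfsgLib.Recog.SuborbitThree.card_centralizer_involution_psl hodd hq (x := e t)
      (by rw [MulEquiv.orderOf_eq, ht])
    rw [hall, card_top, ← Nat.card_congr e.toEquiv] at h3'
    have h := CfsgLib.Geom.Moebius.card_imL_two (F := F)
    rw [CfsgLib.Geom.Moebius.gcd_two_of_odd hodd,
      ← Nat.card_congr (MonoidHom.ofInjective Matrix.ProjectiveSpecialLinearGroup.toPGL_injective).toEquiv,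
      ← Nat.card_congr e.toEquiv] at h
    obtain ⟨c, hc⟩ : ∃ c, Fintype.card F = c + 4 := ⟨Fintype.card F - 4, by
      have : 4 ≤ Fintype.card F := hq
      omega⟩
    rw [hc, show c + 4 - 1 = c + 3 by omega] at h h3'
    rcases h3' with h3' | h3' <;> rw [h3'] at h <;>
      nlinarith [Nat.zero_le (c * c * c), Nat.zero_le (c * c)]
  -- the Sylow subgroup of the quotient
  let S₁ : Sylow 2 K := S.subtype hSK
  let T : Sylow 2 (↥K ⧸ Cfsg.oddCore ↥K) := S₁.mapSurjective (QuotientGroup.mk'_surjective _)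
  let φ : (S : Subgroup G) →* (↥K ⧸ Cfsg.oddCore ↥K) := π.comp (inclusion hSK)
  have hφinj : Function.Injective φ := (injective_iff_map_eq_one φ).2 fun s hs => by
    have h1 : (s : G) ∈ coreK K := mem_coreK (x := inclusion hSK s) |>.2 hs
    obtain ⟨k, hk⟩ := S.2 s
    refine orderOf_eq_one_iff.1 (Nat.eq_one_of_dvd_coprimes
      (Nat.coprime_two_right.2 (odd_coreK K) |>.pow_right k)
      (by rw [← Subgroup.orderOf_coe]; exact Subgroup.orderOf_dvd_natCard _ h1)
      (orderOf_dvd_of_pow_eq_one hk))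
  have hφr : φ.range = (T : Subgroup (↥K ⧸ Cfsg.oddCore ↥K)) := by
    rw [show (T : Subgroup (↥K ⧸ Cfsg.oddCore ↥K)) = (S₁ : Subgroup K).map π from rfl,
      MonoidHom.range_comp, inclusion_range]
    rfl
  let iso : (S : Subgroup G) ≃* (T : Subgroup (↥K ⧸ Cfsg.oddCore ↥K)) :=
    (MonoidHom.ofInjective hφinj).trans (MulEquiv.subgroupCongr hφr)
  let E := CfsgLib.Recog.GenDihedral.mapData iso D
  have hiso : ∀ s : (S : Subgroup G), ((iso s : (T : Subgroup (↥K ⧸ Cfsg.oddCore ↥K))) : ↥K ⧸ Cfsg.oddCore ↥K) =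
      φ s := fun s => rfl
  have hEz : dz T E = A := by
    simp only [dz, DihData.z, E, CfsgLib.Recog.GenDihedral.mapData, ← map_zpow, hiso]
    exact congrArg π (Subtype.ext hz)
  obtain ⟨PL, DL, j, hPL, hdz, -, hdt, hcov⟩ := CfsgLib.Recog.GenDihedral.exists_subData T E L hLns
  have hAL : A ∈ L := by rw [← hEz, ← hdz]; exact SetLike.coe_mem _
  set CA := centralizer ({A} : Set (↥K ⧸ Cfsg.oddCore ↥K)) with hCA
  set CL := L ⊓ CA with hCL
  obtain ⟨P, χ, hχ, hLP, hLχ, hχL, hinv, hconjinv⟩ := exists_linear hodd T0 E0 L e hC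
  have hAP := hinv _ hA
  set A' := χ ⟨A, hAP⟩ with hA'
  have hA'2 : orderOf A' = 2 := by rw [hA', orderOf_injective χ hχ, orderOf_mk, hA]
  have hCLcard : Nat.card CL = Nat.card
      (centralizer ({A'} : Set PGL(2, F)) ⊓ CfsgLib.Geom.Moebius.imL F : Subgroup PGL(2, F)) := by
    have hm : (CL.subgroupOf P).map χ =
        centralizer ({A'} : Set PGL(2, F)) ⊓ CfsgLib.Geom.Moebius.imL F := by
      ext y
      constructor
      · rintro ⟨q, hq, rfl⟩
        obtain ⟨hq1, hq2⟩ := mem_inf.1 (mem_subgroupOf.1 hq)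
        exact mem_inf.2 ⟨mem_centralizer_singleton_iff.2 ((show Commute q ⟨A, hAP⟩ from
          Subtype.ext (mem_centralizer_singleton_iff.1 hq2)).map χ).eq, hLχ q hq1⟩
      · rintro ⟨hy1, hy2⟩
        obtain ⟨q, hq, rfl⟩ := hχL y hy2
        refine ⟨q, mem_subgroupOf.2 (mem_inf.2 ⟨hq, mem_centralizer_singleton_iff.2 ?_⟩), rfl⟩
        have h := mem_centralizer_singleton_iff.1 hy1
        rw [hA', ← map_mul, ← map_mul] at h
        exact congrArg Subtype.val (hχ h)
    rw [← hm, card_map_of_injective hχ,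
      Nat.card_congr (subgroupOfEquivOfLe (inf_le_left.trans hLP : CL ≤ P)).toEquiv]
  have hVCL : V' ≤ CL := by
    intro v hv
    obtain ⟨w, hw, rfl⟩ := id hv
    refine mem_inf.2 ⟨?_, mem_centralizer_singleton_iff.2 (hVA _ hv).eq⟩
    have ho : Odd (orderOf (π w)) :=
      (hcV ▸ hoddV).of_dvd_nat (Subgroup.orderOf_dvd_natCard V' hv)
    have hwP : π w ∈ P := hconjinv _ (π ⟨b, hbK⟩) ho (by
      rw [← map_inv, ← map_mul, ← map_mul, ← map_inv]
      exact congrArg π (Subtype.ext (hinvV _ hw)))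
    obtain ⟨q, hq, he⟩ := hχL _ (odd_mem_imL hodd (x := χ ⟨π w, hwP⟩)
      (by rw [orderOf_injective χ hχ, orderOf_mk]; exact ho))
    exact ((congrArg Subtype.val (hχ he)).trans rfl : (q : ↥K ⧸ Cfsg.oddCore ↥K) = π w) ▸ hq
  -- the two-part
  have hTA : (T : Subgroup (↥K ⧸ Cfsg.oddCore ↥K)) ≤ CA := fun t ht =>
    mem_centralizer_singleton_iff.2 (hEz ▸ (dz_commute T E ht).symm.eq)
  have hTcard : Nat.card (T : Subgroup (↥K ⧸ Cfsg.oddCore ↥K)) = 4 * D.h :=
    (Nat.card_congr iso.toEquiv).symm.trans D.card_eq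
  set TL := (T : Subgroup (↥K ⧸ Cfsg.oddCore ↥K)) ⊓ L with hTL
  have hTLC : TL ≤ CL := le_inf inf_le_right (inf_le_left.trans hTA)
  obtain ⟨k, hk⟩ := (T.2.to_le (inf_le_left : TL ≤ _)).exists_card_eq
  have hTLdvd : Nat.card TL ∣ 4 * D.h := hTcard ▸ card_dvd_of_le inf_le_left
  have hrel : TL.relIndex (T : Subgroup (↥K ⧸ Cfsg.oddCore ↥K)) ∣ 2 := by
    have hx := SetLike.coe_mem (E.r ^ (j + 1) * E.s)
    refine relIndex_dvd_two_iff.2 ⟨_, hx, fun t ht => ?_⟩
    rcases hcov t ht with h | h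
    · exact Or.inr ⟨ht, h⟩
    · refine Or.inl ⟨mul_mem ht hx, ?_⟩
      have h1 := hLn.conj_mem _ h (dt T E (j + 1))⁻¹
      rw [inv_inv] at h1
      simpa [mul_assoc] using h1
  have hhalf : 2 * D.h ∣ Nat.card TL := by
    have h := relIndex_mul_card' (A := TL) (B := (T : Subgroup (↥K ⧸ Cfsg.oddCore ↥K))) inf_le_left
    rw [hTcard] at h
    rcases (Nat.dvd_prime Nat.prime_two).1 hrel with h' | h' <;> rw [h'] at h
    · exact ⟨2, by omega⟩
    · exact ⟨1, by omega⟩
  have hfour : 4 ∣ Nat.card TL := by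
    have hle : dU T E j ≤ TL := by
      rintro _ ⟨w, hw, rfl⟩
      refine mem_inf.2 ⟨w.2, ?_⟩
      have hz' : dz T E ∈ L := by rw [hEz]; exact hAL
      have ht' : dt T E j ∈ L := hdt ▸ SetLike.coe_mem _
      rcases hw with rfl | rfl | rfl | rfl
      · exact one_mem L
      · exact hz'
      · exact ht'
      · exact mul_mem hz' ht'
    have h4 := (dU_isKleinFour T E j).card_four
    rw [← h4]
    exact card_dvd_of_le hle
  have hcop : ∀ n, n ∣ Nat.card TL → n * Nat.card V ∣ Nat.card CL := fun n hn => by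
    refine Nat.Coprime.mul_dvd_of_dvd_of_dvd ?_ (hn.trans (card_dvd_of_le hTLC))
      (hcV ▸ card_dvd_of_le hVCL)
    exact Nat.Coprime.coprime_dvd_left hn (hk ▸ ((Nat.coprime_two_left.2 hoddV).pow_left k))
  -- the index
  have hidx : (K ⊓ cI a).relIndex K = CA.index := by
    rw [← index_comap_of_surjective (H := CA) (QuotientGroup.mk'_surjective (Cfsg.oddCore ↥K))]
    refine congrArg Subgroup.index ?_
    ext k
    constructor
    · intro hk'
      exact mem_centralizer_singleton_iff.2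
        (commute_map (y := ⟨a, haK⟩) (mem_cI.1 (mem_subgroupOf.1 hk').2 : Commute (k : G) a)).eq
    · intro hk'
      refine mem_subgroupOf.2 ⟨k.2, ?_⟩
      have he : π (⟨a, haK⟩⁻¹ * (k * ⟨a, haK⟩ * k⁻¹)) = 1 := by
        have h := mem_centralizer_singleton_iff.1 (mem_comap.1 hk')
        rw [map_mul, map_mul, map_mul, map_inv, map_inv, show π k * A * (π k)⁻¹ = A by
          rw [show π k * A = A * π k from h, mul_inv_cancel_right], inv_mul_cancel]
      have ho := mem_coreK.2 he
      set o := a⁻¹ * ((k : G) * a * (k : G)⁻¹) with ho'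
      have hco : Commute o a := mem_cI.1 (hcore ho)
      have hoo : o * o = 1 := by
        have hao : a * o = (k : G) * a * (k : G)⁻¹ := mul_inv_cancel_left a _
        have h2 := invol_mul_self (x := a * o) (by rw [hao, orderOf_conj_eq, ha])
        rw [mul_assoc a o (a * o), ← mul_assoc o a o, hco.eq, mul_assoc a o o, ← mul_assoc a a,
          invol_mul_self ha, one_mul] at h2
        exact h2
      have ho1 : o = 1 := eq_one_of_sq_of_odd hoo (odd_of_mem (odd_coreK K) ho)
      rw [ho', inv_mul_eq_one] at ho1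
      exact mem_cI.2 (eq_mul_inv_iff_mul_eq.1 ho1).symm
  refine ⟨Fintype.card F, Nat.card CL, CA.relIndex L, Nat.card_pos, hcop 4 hfour, hcop (2 * D.h) hhalf, ?_, ?_, ?_⟩
  · rcases PGL.card_centralizer_imL hodd hq hA'2 with h | h <;> rw [hCLcard, h]
    omega
  · have hL : CA.relIndex L * Nat.card CL = Nat.card L := by
      have h := relIndex_mul_card' (A := CL) (B := L) inf_le_left
      rwa [hCL, inf_comm, inf_relIndex_right, inf_comm] at h
    have h := CfsgLib.Geom.Moebius.card_imL_two (F := F)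
    rw [CfsgLib.Geom.Moebius.gcd_two_of_odd hodd,
      ← Nat.card_congr (MonoidHom.ofInjective Matrix.ProjectiveSpecialLinearGroup.toPGL_injective).toEquiv,
      ← Nat.card_congr e.toEquiv, ← hL, hCLcard] at h
    obtain ⟨c, hc⟩ : ∃ c, Fintype.card F = c + 1 := ⟨Fintype.card F - 1, by
      have : 4 ≤ Fintype.card F := hq
      omega⟩
    have hc3 : 3 ≤ c := by
      have : 4 ≤ Fintype.card F := hq
      omega
    rw [hc, show c + 1 - 1 = c by omega] at h ⊢
    rcases PGL.card_centralizer_imL hodd hq hA'2 with h' | h' <;> rw [h', hc] at h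
    · refine Or.inr ?_
      rw [show c + 1 - 1 = c by omega] at h
      exact Nat.eq_of_mul_eq_mul_right (show 0 < c by omega) (by linarith)
    · exact Or.inl (Nat.eq_of_mul_eq_mul_right (show 0 < c + 1 + 1 by omega) (by linarith))
  · rw [hidx]
    have h : CA.relIndex L * L.index = L.relIndex CA * CA.index := by
      rw [← inf_relIndex_right CA L, relIndex_mul_index inf_le_right, inf_comm CA L,
        ← relIndex_mul_index (inf_le_right : L ⊓ CA ≤ CA), inf_relIndex_right]
    obtain ⟨m, hm⟩ := relIndex_dvd_index_of_normal L CA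
    refine ⟨m, Nat.eq_of_mul_eq_mul_left (show 0 < L.relIndex CA from
      Nat.pos_of_ne_zero index_ne_zero_of_finite) ?_⟩
    rw [← h, hm]
    ring

end CfsgLib.GW.Alpha
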