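import Cfsg.Agent.Lib.GW.Component.Alpha.Setup
import Cfsg.Agent.Lib.GW.Component.Alpha.ShapeSize

/-!
A Sylow 2-subgroup of `C(a)` through `b` normalises the fixed part.
-/

set_option autoImplicit false
set_option linter.unusedSectionVars false
set_option linter.style.haveILetI false

namespace CfsgLib.GW.Alpha

open Subgroup CfsgLib.Invol CfsgLib.BlockA.DihedralBlock

universe u

variable {G : Type u} [Group G] [Finite G]

/-- A Sylow subgroup through two commuting involutions with the first central. -/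
theorem exists_data (M : Min G) {a b : G} (ha : orderOf a = 2) (hb : orderOf b = 2)
    (hbc : b ∈ cI a) (hne : b ≠ a) :
    ∃ (S : Sylow 2 G) (D : DihData (S : Subgroup G)) (i : ℤ),
      dz S D = a ∧ dt S D i = b ∧ (S : Subgroup G) ≤ cI a := by
  haveI : Fact (Nat.Prime 2) := ⟨Nat.prime_two⟩
  obtain ⟨T, haT, hTc⟩ := M.exists_sylow ha
  obtain ⟨c, hc⟩ := exists_conj_invol_mem_sylow (T.subtype hTc) (x := (⟨b, hbc⟩ : cI a))
    (by rw [orderOf_mk, hb])
  have hcT : (c : G) * b * (c : G)⁻¹ ∈ (T : Subgroup G) := mem_subgroupOf.1 hc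
  set S := (c : G)⁻¹ • T with hS
  have hmem : ∀ w ∈ (T : Subgroup G), (c : G)⁻¹ * w * (c : G) ∈ (S : Subgroup G) := fun w hw =>
    ⟨w, hw, by simp [MulAut.smul_def]⟩
  have hbS : b ∈ (S : Subgroup G) := by simpa [mul_assoc] using hmem _ hcT
  have haS : a ∈ (S : Subgroup G) := by
    have e : (c : G)⁻¹ * a * c = a := by
      simpa using conj_eq_self (inv_mem c.2)
    simpa [e] using hmem _ haT
  have hSc : (S : Subgroup G) ≤ cI a := by
    rintro _ ⟨w, hw, rfl⟩
    exact (cI a).mul_mem ((cI a).mul_mem (inv_mem c.2) (hTc hw)) ((cI a).inv_mem (inv_mem c.2))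
  obtain ⟨D₀⟩ := M.dih S
  obtain ⟨D, hD⟩ := CfsgLib.InvChar.BSW.exists_dihData_central D₀ ⟨a, haS⟩
    (by rw [orderOf_mk, ha]) fun w => Subtype.ext (mem_cI.1 (hSc w.2))
  have hza : dz S D = a := congrArg Subtype.val hD
  rcases D.invol_cases (u := ⟨b, hbS⟩) (by rw [orderOf_mk, hb]) with e | ⟨i, e⟩
  · exact absurd ((congrArg Subtype.val e).trans hza) hne
  · exact ⟨S, D, i, hza, (congrArg Subtype.val e).symm, hSc⟩

/-- The centralizer of an involution is a product of its core and a Sylow subgroup. -/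
theorem exists_mul_sylow (M : Min G) {a : G} (ha : orderOf a = 2) {S : Sylow 2 G}
    (hSc : (S : Subgroup G) ≤ cI a) {x : G} (hx : x ∈ cI a) :
    ∃ o ∈ coreC a, ∃ s ∈ (S : Subgroup G), x = o * s := by
  haveI : Fact (Nat.Prime 2) := ⟨Nat.prime_two⟩
  obtain ⟨T⟩ := (inferInstance : Nonempty (Sylow 2 G))
  obtain ⟨D⟩ := M.dih T
  obtain ⟨e⟩ := dihEquiv D
  obtain ⟨N, hN, hNo, k, hk⟩ :=
    Cfsg.Agent.S0514.result T (2 * D.h) (by have := D.h_pos; omega) ⟨e⟩ a ha
  haveI := CfsgLib.Solvable.pPrimeCore_normal 2 ↥(cI a)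
  set O := Cfsg.oddCore ↥(cI a) with hO
  haveI : O.Normal := CfsgLib.Solvable.pPrimeCore_normal 2 ↥(cI a)
  have hNO : N ≤ O := CfsgLib.Solvable.le_pPrimeCore hN (Nat.coprime_two_right.2 hNo)
  obtain ⟨j, -, hj⟩ := (Nat.dvd_prime_pow Nat.prime_two).1 (hk ▸ index_dvd_of_le hNO)
  have hp : IsPGroup 2 (↥(cI a) ⧸ O) :=
    IsPGroup.of_card (n := j) (by rw [← index_eq_card, hj])
  set P := (S.subtype hSc).mapSurjective (QuotientGroup.mk'_surjective O) with hP
  have htop : (P : Subgroup (↥(cI a) ⧸ O)) = ⊤ :=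
    (P.3 (hp.to_subgroup ⊤) le_top).symm
  obtain ⟨s, hs, he⟩ : QuotientGroup.mk' O ⟨x, hx⟩ ∈ (P : Subgroup (↥(cI a) ⧸ O)) :=
    htop ▸ mem_top _
  refine ⟨((⟨x, hx⟩ * s⁻¹ : cI a) : G), ⟨⟨x, hx⟩ * s⁻¹, ?_, rfl⟩, s, mem_subgroupOf.1 hs, by simp [mul_assoc]⟩
  refine (QuotientGroup.eq_one_iff _).1 ?_
  show QuotientGroup.mk' O (⟨x, hx⟩ * s⁻¹) = 1
  rw [map_mul, map_inv, he, mul_inv_cancel]

theorem card_inf_cI (M : Min G) {a : G} (ha : orderOf a = 2) {S : Sylow 2 G}
    (hSc : (S : Subgroup G) ≤ cI a) {L : Subgroup G} (hSL : (S : Subgroup G) ≤ L) :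
    Nat.card (L ⊓ cI a : Subgroup G) =
      Nat.card (L ⊓ coreC a : Subgroup G) * Nat.card (S : Subgroup G) := by
  haveI : Fact (Nat.Prime 2) := ⟨Nat.prime_two⟩
  rw [← Nat.card_prod]
  symm
  refine Nat.card_congr (Equiv.ofBijective
    (fun os => (⟨(os.1 : G) * os.2, mul_mem (mem_inf.2 ⟨os.1.2.1, coreC_le_cI a os.1.2.2⟩)
      (mem_inf.2 ⟨hSL os.2.2, hSc os.2.2⟩)⟩ : (L ⊓ cI a : Subgroup G))) ⟨?_, fun x => ?_⟩)
  · rintro ⟨o, s⟩ ⟨o', s'⟩ he
    have he' : (o : G) * s = o' * s' := congrArg Subtype.val he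
    have hd : (o' : G)⁻¹ * o = s' * (s : G)⁻¹ := by
      rw [eq_mul_inv_iff_mul_eq, mul_assoc, he', inv_mul_cancel_left]
    obtain ⟨k, hk⟩ := S.2 (s' * s⁻¹)
    have h1 : (o' : G)⁻¹ * o = 1 := orderOf_eq_one_iff.1 (Nat.eq_one_of_dvd_coprimes
      ((Nat.coprime_two_right.2 (odd_coreC a)).pow_right k)
      (Subgroup.orderOf_dvd_natCard (coreC a) (mul_mem (inv_mem o'.2.2) o.2.2))
      (orderOf_dvd_of_pow_eq_one (by rw [hd]; exact congrArg Subtype.val hk)))
    rw [inv_mul_eq_one] at h1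
    rw [← h1] at he'
    exact Prod.ext (Subtype.ext h1.symm) (Subtype.ext (mul_left_cancel he'))
  · obtain ⟨o, ho, s, hs, he⟩ := exists_mul_sylow M ha hSc x.2.2
    have hoL : o ∈ L := by
      rw [eq_mul_inv_of_mul_eq he.symm]
      exact mul_mem x.2.1 (inv_mem (hSL hs))
    exact ⟨⟨⟨o, hoL, ho⟩, ⟨s, hs⟩⟩, Subtype.ext he.symm⟩

namespace Ov

variable {a b g : G} {p : ℕ} (h : Ov a b g p)
include h

/-- An involution inverting the inverted part modulo the core fixes only the fixed part. -/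
theorem inf_cI_le_of_inverts {j : G}
    (hjK : j ∈ nQ a b p) (hjy : ∀ v ∈ zP a p ⊓ h.tK, j * v * j⁻¹ * v ∈ coreK (nQ a b p)) :
    zP a p ⊓ cI j ≤ qP a b p := by
  intro z hz
  obtain ⟨q, hq, v, hv, rfl⟩ := h.zP_split hz.1
  set e := j * v * j⁻¹ * v with he
  have h1 : j * (q * v) * j⁻¹ = q * v := by
    rw [(mem_cI.1 hz.2 : q * v * j = j * (q * v)).symm, mul_inv_cancel_right]
  have h2 : v * v = q⁻¹ * (j * q * j⁻¹) * e := by
    calc v * v = q⁻¹ * (q * v) * v := by group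
      _ = q⁻¹ * (j * (q * v) * j⁻¹) * v := by rw [h1]
      _ = q⁻¹ * (j * q * j⁻¹) * e := by rw [he]; group
  have h3 : v * v ∈ h.tK ⊓ coreK (nQ a b p) := by
    refine mem_inf.2 ⟨mul_mem hv.2 hv.2, ?_⟩
    rw [h2]
    exact mul_mem (mul_mem (inv_mem (h.qP_le_coreK hq))
      (conj_mem_coreK hjK (h.qP_le_coreK hq))) (hjy v hv)
  rw [h.tK_inf_coreK, mem_bot] at h3
  rw [eq_one_of_sq_of_odd h3 (odd_orderOf_mem_coreC hv.2.1.2), mul_one]
  exact hq

/-- **A Sylow 2-subgroup of `C(a)` through `b` normalises the fixed part.** -/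
theorem sylow_le {S : Sylow 2 G} (D : DihData (S : Subgroup G)) {i : ℤ} (hz : dz S D = a)
    (hi : dt S D i = b) (hSc : (S : Subgroup G) ≤ cI a) : (S : Subgroup G) ≤ nQ a b p := by
  set K := nQ a b p with hK
  have hstep : ∀ e : ℤ, ((D.r ^ (2 * e) : (S : Subgroup G)) : G) ∈ K →
      ((D.r ^ e : (S : Subgroup G)) : G) ∈ K := by
    intro e he
    set τ : G := ((D.r ^ e : (S : Subgroup G)) : G)
    set c : G := ((D.r ^ (2 * e) : (S : Subgroup G)) : G)
    have hτ : τ ∈ cI a := hSc (SetLike.coe_mem _)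
    have hconj : τ * b * τ⁻¹ = c * b := by
      rw [← hi]
      refine congrArg Subtype.val (?_ : D.r ^ e * (D.r ^ i * D.s) * (D.r ^ e)⁻¹ =
        D.r ^ (2 * e) * (D.r ^ i * D.s))
      rw [D.conj_refl, ← mul_assoc, ← zpow_add, add_comm]
    set b' := τ * b * τ⁻¹ with hb'
    have hb'K : b' ∈ K := hconj ▸ mul_mem he h.b_mem
    have hb'2 : orderOf b' = 2 := by rw [hb', orderOf_conj_eq]; exact h.hb
    have hb'a : Commute b' a :=
      mem_cI.1 (mul_mem (mul_mem hτ h.b_mem_cI) (inv_mem hτ))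
    have hb'ne : b' ≠ a := fun e' =>
      h.hne ((MulAut.conj τ).injective (e'.trans (conj_eq_self hτ).symm :))
    rcases alt_or_inverts h.min h.nQ_ne_top h.ha h.a_mem with ⟨hgen, -⟩ | hinv
    · -- `c` centralises the fixed part
      have hcQ : ∀ z ∈ qP a b p, Commute c z := by
        obtain ⟨o, ho, hco⟩ := hgen c he (centralizer (qP a b p : Set G)) fun k hk =>
          mem_centralizer_iff.2 fun z hz =>
            (conj_commute_coreK h.coreK_le_a hk (h.qP_le_coreK hz)).eq.symm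
        set f := normalizerMonoidHom (qP a b p) with hf
        have hoK : o ∈ K := coreK_le K ho
        have hfco : f (⟨c, he⟩ * ⟨o, hoK⟩) = 1 := by
          refine MulEquiv.ext fun z => Subtype.ext ?_
          show c * o * (z : G) * (c * o)⁻¹ = z
          rw [← mem_centralizer_iff.1 hco z z.2, mul_inv_cancel_right]
        obtain ⟨k, hk⟩ := S.2 (D.r ^ (2 * e))
        have h1 : f ⟨c, he⟩ = 1 := by
          rw [map_mul] at hfco
          refine orderOf_eq_one_iff.1 (Nat.eq_one_of_dvd_coprimes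
            ((Nat.coprime_two_left.2 (odd_coreK K)).pow_left k) ?_ ?_)
          · refine orderOf_dvd_of_pow_eq_one ?_
            rw [← map_pow, show (⟨c, he⟩ : K) ^ 2 ^ k = 1 from
              Subtype.ext (congrArg Subtype.val hk :), map_one]
          · rw [eq_inv_of_mul_eq_one_left hfco, orderOf_inv]
            refine (orderOf_map_dvd f _).trans ?_
            rw [orderOf_mk]
            exact Subgroup.orderOf_dvd_natCard _ ho
        intro z hz
        have := congrArg Subtype.val (DFunLike.congr_fun h1 (⟨z, hz⟩ : qP a b p))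
        exact mul_inv_eq_iff_eq_mul.1 (this : c * z * c⁻¹ = z)
      refine inv_mem_iff.1 (mem_normalizer_iff_of_finite fun z hz => ?_)
      rw [inv_inv]
      refine mem_inf.2 ⟨by simpa using conj_mem_zP (inv_mem hτ) hz.1, mem_cI.2 ?_⟩
      have h1 : Commute b' z := by
        rw [hconj]; exact (hcQ z hz).mul_left (mem_cI.1 hz.2).symm
      have h2 := h1.map (MulAut.conj τ⁻¹).toMonoidHom
      have e1 : τ⁻¹ * b' * τ = b := by rw [hb']; group
      simp only [MulEquiv.coe_toMonoidHom, MulAut.conj_apply, inv_inv, e1] at h2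
      exact h2.eq.symm
    · refine mem_normalizer_iff_of_finite fun z hz => ?_
      refine h.inf_cI_le_of_inverts hb'K (fun v hv => ?_) ⟨conj_mem_zP hτ hz.1, mem_cI.2 ?_⟩
      · exact hinv b' hb'K hb'2 hb'a hb'ne b h.b_mem h.hb v ⟨hv.2.1.1, hv.2.1.2⟩ hv.2.2
      · calc τ * z * τ⁻¹ * b' = τ * (z * b) * τ⁻¹ := by rw [hb']; group
          _ = τ * (b * z) * τ⁻¹ := by rw [mem_cI.1 hz.2]
          _ = _ := by rw [hb']; group
  have hrot : ∀ (l : ℕ) (e : ℤ), (2 * (D.h : ℤ)) ∣ 2 ^ l * e →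
      ((D.r ^ e : (S : Subgroup G)) : G) ∈ K := by
    intro l
    induction l with
    | zero =>
      intro e he
      rw [D.zpow_eq_one_iff.2 (by simpa using he)]
      exact one_mem _
    | succ l ih =>
      intro e he
      exact hstep e (ih (2 * e) (by rw [← mul_assoc, ← pow_succ]; exact he))
  have hr : ∀ e : ℤ, ((D.r ^ e : (S : Subgroup G)) : G) ∈ K := fun e => by
    obtain ⟨k, hk⟩ := D.h_pow
    exact hrot (k + 1) e (Dvd.dvd.mul_right (by rw [hk]; push_cast; rw [pow_succ, mul_comm]) e)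
  intro s hs
  rcases D.cases ⟨s, hs⟩ with ⟨e, he⟩ | ⟨e, he⟩
  · have hse : s = ((D.r ^ e : (S : Subgroup G)) : G) := congrArg Subtype.val he
    rw [hse]
    exact hr e
  · have he' : s = ((D.r ^ (e - i) : (S : Subgroup G)) : G) * dt S D i := by
      refine (congrArg Subtype.val he : s = _).trans (congrArg Subtype.val
        (?_ : D.r ^ e * D.s = D.r ^ (e - i) * (D.r ^ i * D.s)))
      rw [← mul_assoc, ← zpow_add, sub_add_cancel]
    rw [he', hi]
    exact mul_mem (hr _) h.b_mem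

theorem not_cI_le : ¬ cI a ≤ nQ a b p := fun hle => by
  obtain ⟨u, -, huQ, -, -, hconj⟩ := h.exists_u
  have hu : u ∈ cI a := by
    rw [((h.max a h.ha).le_iff.1 hle).resolve_left h.nQ_ne_top |>.symm]
    exact h.mem_nQ_of_commute fun z hz => (huQ z hz).symm
  exact hconj ((cI a).mul_mem ((cI a).mul_mem hu (self_mem_cI a)) ((cI a).inv_mem hu))

/-- `O(C(a))` does not normalise the fixed part. -/
theorem not_coreC_le : ¬ coreC a ≤ nQ a b p := fun hle => by
  obtain ⟨S, D, i, hz, hi, hSc⟩ := exists_data h.min h.ha h.hb h.b_mem_cI h.hne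
  refine h.not_cI_le fun x hx => ?_
  obtain ⟨o, ho, s, hs, rfl⟩ := exists_mul_sylow h.min h.ha hSc hx
  exact mul_mem (hle ho) (h.sylow_le D hz hi hSc hs)

end Ov

end CfsgLib.GW.Alpha
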