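import Cfsg.Agent.Lib.GW.Component.Alpha.Fitting
import Cfsg.Agent.Lib.GW.Component.Alpha.SylowPart

/-!
The orbit of the fixed part under `O(C(a))`: the central elements of order `p` form a plane, and
twice the number of conjugates of the fixed part is at most the inverted part plus one.
-/

set_option autoImplicit false
set_option linter.unusedSectionVars false
set_option linter.style.haveILetI false

namespace CfsgLib.GW.Alpha

open Subgroup CfsgLib.Invol

universe u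

variable {G : Type u} [Group G] [Finite G]

/-- If a power of order prime to that of `z` of a map fixes `z` up to inversion, so does it. -/
theorem eq_one_of_inverts_z {e z : G} (he : Odd (orderOf e)) (hz : Odd (orderOf z))
    (h : e * z * e⁻¹ = z⁻¹) : z = 1 := by
  have h2 : Commute (e * e) z := by
    refine mul_inv_eq_iff_eq_mul.1 ?_
    calc e * e * z * (e * e)⁻¹ = e * (e * z * e⁻¹) * e⁻¹ := by group
      _ = (e * z * e⁻¹)⁻¹ := by rw [h, ← conj_inv, h]
      _ = z := by rw [h, inv_inv]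
  have h3 := commute_of_mul_self he h2
  rw [h3.eq, mul_inv_cancel_right] at h
  exact eq_one_of_inv_eq hz h.symm

/-- The number of conjugates of the fixed part under `O(C(a))`. -/
noncomputable abbrev kapQ (a b : G) (p : ℕ) : ℕ := ((nQ a b p).subgroupOf (coreC a)).index

namespace Ov

variable {a b g : G} {p : ℕ} (h : Ov a b g p)
include h

/-- The inverted part of the central elements of order `p`. -/
abbrev y0 : Subgroup G := zP a p ⊓ h.tK

theorem y0_le_yF : h.y0 ≤ h.yF := fun _ hx => by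
  haveI := h.fact
  exact ⟨zP_le_fitC hx.1, hx.2⟩

theorem card_y0 : Nat.card h.y0 = p := by
  haveI := h.fact
  obtain ⟨y, hy, hyb, hy0⟩ := h.exists_y
  have hyY : y ∈ h.y0 := ⟨hy, ⟨h.zP_le_nQ hy, zP_le_coreC a p hy⟩, hyb⟩
  have hy1 : y ≠ 1 := fun e => hy0 (e ▸ one_mem _)
  set K := nQ a b p
  obtain ⟨R, r, hrR, hRle, hcyc, hR⟩ := h.min.torus h.nQ_ne_top h.ha h.a_mem
  set π := QuotientGroup.mk' (Cfsg.oddCore ↥K)
  have hle : h.y0 ≤ K := fun x hx => hx.2.1.1
  let ψ : h.y0 →* ↥K ⧸ Cfsg.oddCore ↥K := π.comp (inclusion hle)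
  have hψ : Function.Injective ψ := (injective_iff_map_eq_one ψ).2 fun x hx => by
    have h1 : (x : G) ∈ h.tK ⊓ coreK K := mem_inf.2 ⟨x.2.2, mem_coreK (x := inclusion hle x) |>.2 hx⟩
    rw [h.tK_inf_coreK, mem_bot] at h1
    exact Subtype.ext h1
  have hrange : ψ.range ≤ zpowers (π ⟨r, (hRle hrR).1⟩) := by
    rintro _ ⟨x, rfl⟩
    obtain ⟨i, hi⟩ := hcyc x ((hR b h.b_mem h.hb h.comm.symm h.hne).1 x
      ⟨hle x.2, x.2.2.1.2⟩ x.2.2.2)
    have h1 : π ((⟨r, (hRle hrR).1⟩ ^ i)⁻¹ * inclusion hle x) = 1 := mem_coreK.1 hi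
    rw [map_mul, map_inv, map_pow, inv_mul_eq_one] at h1
    exact (h1 : _ = ψ x) ▸ pow_mem (mem_zpowers _) i
  haveI : IsCyclic ψ.range := isCyclic_of_injective (inclusion hrange) (inclusion_injective hrange)
  haveI : IsCyclic h.y0 := isCyclic_of_injective ψ.rangeRestrict
    fun x x' e => hψ (congrArg Subtype.val e)
  obtain ⟨w, hw⟩ := IsCyclic.exists_generator (α := h.y0)
  rw [← orderOf_eq_card_of_forall_mem_zpowers hw]
  refine ((Nat.dvd_prime h.mixed.hp).1
    (orderOf_dvd_of_pow_eq_one (Subtype.ext w.2.1.2.2))).resolve_left fun e => hy1 ?_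
  obtain ⟨i, hi⟩ := hw ⟨y, hyY⟩
  rw [orderOf_eq_one_iff.1 e] at hi
  simpa using (congrArg Subtype.val hi).symm

theorem card_zP : Nat.card (zP a p) = Nat.card (qP a b p) * Nat.card h.y0 := by
  rw [← Nat.card_prod]
  symm
  refine Nat.card_congr (Equiv.ofBijective
    (fun qv => (⟨(qv.1 : G) * qv.2, mul_mem qv.1.2.1 qv.2.2.1⟩ : zP a p)) ⟨?_, fun x => ?_⟩)
  · rintro ⟨q, v⟩ ⟨q', v'⟩ he
    have he' : (q : G) * v = q' * v' := congrArg Subtype.val he
    have hd : (q' : G)⁻¹ * q = v' * (v : G)⁻¹ := by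
      rw [eq_mul_inv_iff_mul_eq, mul_assoc, he', inv_mul_cancel_left]
    have h1 : (v' : G) * (v : G)⁻¹ ∈ h.tK ⊓ coreK (nQ a b p) :=
      mem_inf.2 ⟨mul_mem v'.2.2 (inv_mem v.2.2), hd ▸ h.qP_le_coreK (mul_mem (inv_mem q'.2) q.2)⟩
    rw [h.tK_inf_coreK, mem_bot, mul_inv_eq_one] at h1
    rw [h1] at he'
    exact Prod.ext (Subtype.ext (mul_right_cancel he')) (Subtype.ext h1.symm)
  · obtain ⟨q, hq, v, hv, he⟩ := h.zP_split x.2
    exact ⟨⟨⟨q, hq⟩, ⟨v, hv⟩⟩, Subtype.ext he.symm⟩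

theorem coreC_split {o : G} (ho : o ∈ coreC a) : ∃ w ∈ coreC a ⊓ cI b, ∃ r ∈ coreC a,
    b * r * b⁻¹ = r⁻¹ ∧ o = w * r := by
  obtain ⟨w, v, hw, hv, rfl, hwb, hvb⟩ := exists_fixed_mul_inv (odd_coreC a) (invol_mul_self h.hb)
    (fun x hx => h.b_conj_coreC hx) ho
  exact ⟨w, ⟨hw, mem_cI.2 hwb.eq.symm⟩, v, hv, hvb, rfl⟩

/-- Some inverted element moves the fixed part off itself completely. -/
theorem exists_mover : ∃ r ∈ coreC a, b * r * b⁻¹ = r⁻¹ ∧
    ∀ z ∈ qP a b p, r * z * r⁻¹ ∈ qP a b p → z = 1 := by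
  by_contra hcon
  push Not at hcon
  refine h.not_coreC_le fun o ho => ?_
  have key : ∀ r ∈ coreC a, b * r * b⁻¹ = r⁻¹ → ∀ t ∈ h.tK, Commute r t := by
    intro r hr hri t ht
    obtain ⟨z, hz, hz', hz1⟩ := hcon r hr hri
    exact h.commute_tK hr hri hz hz1 (commute_of_fixed (odd_orderOf_mem_coreC hr) hri
      (mem_cI.1 hz.2).symm (mem_cI.1 hz'.2).symm) ht
  have hn : coreC a ≤ normalizer (h.yF : Set G) := fun o ho =>
    mem_normalizer_iff_of_finite fun y hy => by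
      obtain ⟨w, hw, r, hr, hri, rfl⟩ := h.coreC_split ho
      rw [show w * r * y * (w * r)⁻¹ = w * (r * y * r⁻¹) * w⁻¹ by group,
        (key r hr hri y hy.2).eq, mul_inv_cancel_right]
      exact h.W_conj_yF hw hy
  obtain ⟨w, hw, r, hr, hri, rfl⟩ := h.coreC_split ho
  exact mul_mem (h.W_le hw).1
    (h.fitC_le_nQ (h.mem_fitC_of_commute hr hri (fun y hy => key r hr hri y hy.2) hn))

/-- The fixed part has order `p`. -/
theorem card_qP : Nat.card (qP a b p) = p := by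
  haveI := h.fact
  obtain ⟨r, hr, -, hmove⟩ := h.exists_mover
  have hinj : Nat.card (qP a b p × qP a b p) ≤ Nat.card (zP a p) := by
    refine Nat.card_le_card_of_injective (fun qq => (⟨(qq.1 : G) * (r * qq.2 * r⁻¹),
      mul_mem qq.1.2.1 (conj_mem_zP (coreC_le_cI a hr) qq.2.2.1)⟩ : zP a p)) ?_
    rintro ⟨q, q₂⟩ ⟨q', q₂'⟩ he
    have he' : (q : G) * (r * q₂ * r⁻¹) = q' * (r * q₂' * r⁻¹) := congrArg Subtype.val he
    have hd : r * ((q₂' : G) * (q₂ : G)⁻¹) * r⁻¹ = (q' : G)⁻¹ * q := by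
      rw [show r * ((q₂' : G) * (q₂ : G)⁻¹) * r⁻¹ =
        (q' : G)⁻¹ * ((q' : G) * (r * q₂' * r⁻¹)) * (r * q₂ * r⁻¹)⁻¹ by group, ← he']
      group
    have h1 := hmove _ (mul_mem q₂'.2 (inv_mem q₂.2)) (hd ▸ mul_mem (inv_mem q'.2) q.2)
    rw [mul_inv_eq_one] at h1
    rw [h1] at he'
    exact Prod.ext (Subtype.ext (mul_right_cancel he')) (Subtype.ext h1.symm)
  rw [Nat.card_prod, h.card_zP, h.card_y0] at hinj
  have hle : Nat.card (qP a b p) ≤ p := Nat.le_of_mul_le_mul_left hinj Nat.card_pos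
  obtain ⟨k, hk⟩ := ((isPGroup_fitP a p).to_le (qP_le_zP.trans (zP_le_fitP a p)) :
    IsPGroup p (qP a b p)).exists_card_eq
  have h2 : Nat.card (qP a b p) ≠ 1 := fun e => h.ne (card_eq_one.1 e)
  rcases k with _ | _ | k
  · exact absurd (by rw [hk, pow_zero]) h2
  · rw [hk, zero_add, pow_one]
  · exfalso
    have := h.mixed.hp.two_le
    have h3 : p * p ≤ Nat.card (qP a b p) := by
      rw [hk, ← pow_two]; exact Nat.pow_le_pow_right (by omega) (by omega)
    nlinarith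

theorem qP_eq_zpowers {z : G} (hz : z ∈ qP a b p) (hz1 : z ≠ 1) : qP a b p = zpowers z := by
  haveI := h.fact
  refine (eq_of_le_of_card_ge (zpowers_le.2 hz) ?_).symm
  rw [Nat.card_zpowers, orderOf_eq_prime hz.1.2.2 hz1, h.card_qP]

/-- A conjugate of a nontrivial element of the fixed part lies in it only inside the normalizer. -/
theorem mem_of_conj_mem {o z : G} (hz : z ∈ qP a b p) (hz1 : z ≠ 1)
    (hc : o * z * o⁻¹ ∈ qP a b p) : o ∈ nQ a b p := by
  refine mem_normalizer_iff_of_finite fun w hw => ?_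
  rw [h.qP_eq_zpowers hz hz1] at hw
  obtain ⟨i, rfl⟩ := hw
  rw [← conj_zpow]
  exact zpow_mem hc i

theorem eq_one_of_conj_inverted {o z : G} (ho : o ∈ coreC a) (hz : z ∈ qP a b p)
    (hi : b * (o * z * o⁻¹) * b⁻¹ = (o * z * o⁻¹)⁻¹) : z = 1 := by
  refine eq_one_of_inverts_z (e := o⁻¹ * (b * o * b⁻¹))
    (odd_orderOf_mem_coreC (mul_mem (inv_mem ho) (h.b_conj_coreC ho)))
    (odd_orderOf_mem_coreC (qP_le_coreC hz)) ?_
  have hbz : b * z * b⁻¹ = z := by rw [← mem_cI.1 hz.2, mul_inv_cancel_right]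
  calc o⁻¹ * (b * o * b⁻¹) * z * (o⁻¹ * (b * o * b⁻¹))⁻¹
      = o⁻¹ * ((b * o * b⁻¹) * (b * z * b⁻¹) * (b * o * b⁻¹)⁻¹) * o := by rw [hbz]; group
    _ = o⁻¹ * (b * (o * z * o⁻¹) * b⁻¹) * o := by group
    _ = z⁻¹ := by rw [hi]; group

theorem kap_mul : kapQ a b p * (Nat.card h.tK * Nat.card (coreC a ⊓ cI b : Subgroup G)) =
    Nat.card (coreC a) := by
  rw [← h.card_inf, ← index_mul_card ((nQ a b p ⊓ coreC a).subgroupOf (coreC a)),
    Nat.card_congr (subgroupOfEquivOfLe (inf_le_right : nQ a b p ⊓ coreC a ≤ coreC a)).toEquiv,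
    inf_subgroupOf_right]

theorem odd_kap : Odd (kapQ a b p) := (odd_coreC a).of_dvd_nat ⟨_, h.kap_mul.symm⟩

theorem three_le_kap : 3 ≤ kapQ a b p := by
  have h1 : kapQ a b p ≠ 1 := fun e => h.not_coreC_le (subgroupOf_eq_top.1 (index_eq_one.1 e))
  obtain ⟨m, hm⟩ := h.odd_kap
  omega

/-- The conjugates of the nontrivial elements of the fixed part by representatives. -/
theorem orbit_injective :
    Function.Injective (fun x : (coreC a ⧸ (nQ a b p).subgroupOf (coreC a)) ×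
      {z : qP a b p // z ≠ 1} =>
        ((x.1.out : coreC a) : G) * ((x.2.1 : qP a b p) : G) * ((x.1.out : coreC a) : G)⁻¹) := by
  rintro ⟨c, z⟩ ⟨c', z'⟩ he
  simp only at he
  set o := ((c.out : coreC a) : G)
  set o' := ((c'.out : coreC a) : G)
  have hm : o'⁻¹ * o ∈ nQ a b p := by
    refine h.mem_of_conj_mem z.1.2 (fun e => z.2 (Subtype.ext e)) ?_
    rw [show o'⁻¹ * o * (z.1 : G) * (o'⁻¹ * o)⁻¹ = o'⁻¹ * (o * (z.1 : G) * o⁻¹) * o' by group, he,
      show o'⁻¹ * (o' * (z'.1 : G) * o'⁻¹) * o' = (z'.1 : G) by group]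
    exact z'.1.2
  have hc : c' = c := by
    rw [← c.out_eq, ← c'.out_eq]
    exact QuotientGroup.eq.2 (mem_subgroupOf.2 hm)
  subst hc
  exact Prod.ext rfl (Subtype.ext (Subtype.ext
    (mul_left_cancel (mul_right_cancel he))))

theorem orbit_mem (x : (coreC a ⧸ (nQ a b p).subgroupOf (coreC a)) × {z : qP a b p // z ≠ 1}) :
    ((x.1.out : coreC a) : G) * ((x.2.1 : qP a b p) : G) * ((x.1.out : coreC a) : G)⁻¹ ∈ zP a p :=
  conj_mem_zP (coreC_le_cI a (SetLike.coe_mem _)) x.2.1.2.1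

theorem card_orbit_dom : Nat.card ((coreC a ⧸ (nQ a b p).subgroupOf (coreC a)) ×
    {z : qP a b p // z ≠ 1}) = kapQ a b p * (p - 1) := by
  classical
  have := Fintype.ofFinite (qP a b p)
  rw [Nat.card_prod, ← index_eq_card, Nat.card_eq_fintype_card (α := {z : qP a b p // z ≠ 1}),
    Fintype.card_subtype_compl, Fintype.card_subtype_eq, ← Nat.card_eq_fintype_card, h.card_qP]

theorem card_zP' : Nat.card (zP a p) = p * p := by rw [h.card_zP, h.card_qP, h.card_y0]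

theorem kap_le : kapQ a b p ≤ p := by
  classical
  have hne := h.mixed.hp.two_le
  have := Fintype.ofFinite G
  have key : Nat.card ((coreC a ⧸ (nQ a b p).subgroupOf (coreC a)) × {z : qP a b p // z ≠ 1}) ≤
      Nat.card (((zP a p : Set G) \ (h.y0 : Set G) : Set G)) := by
    refine Nat.card_le_card_of_injective (fun x => ⟨_, h.orbit_mem x, fun hy => x.2.2 (Subtype.ext
      (h.eq_one_of_conj_inverted (SetLike.coe_mem _) x.2.1.2 hy.2.2))⟩) ?_
    intro x x' he
    exact h.orbit_injective (congrArg Subtype.val he)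
  rw [h.card_orbit_dom, Nat.card_coe_set_eq, Set.ncard_sdiff (show (h.y0 : Set G) ⊆ zP a p from
    fun x hx => hx.1), ← Nat.card_coe_set_eq, ← Nat.card_coe_set_eq, SetLike.coe_sort_coe,
    SetLike.coe_sort_coe, h.card_zP', h.card_y0] at key
  refine Nat.le_of_mul_le_mul_right (c := p - 1) ?_ (by omega)
  rwa [Nat.mul_sub p p 1, mul_one]

theorem y0_gen {y : G} (hy : y ∈ h.y0) (hy1 : y ≠ 1) : h.y0 = zpowers y := by
  haveI := h.fact
  refine (eq_of_le_of_card_ge (zpowers_le.2 hy) ?_).symm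
  rw [Nat.card_zpowers, orderOf_eq_prime hy.1.2.2 hy1, h.card_y0]

/-- An inverted element outside `N(Q)` centralising the inverted central elements represents all
cosets by its powers. -/
theorem pow_rep {e : G} (he : e ∈ coreC a) (hei : b * e * b⁻¹ = e⁻¹) (heK : e ∉ nQ a b p)
    (hey : ∀ y ∈ h.y0, Commute e y) :
    (∀ o ∈ coreC a, ∃ i : ℕ, (e ^ i)⁻¹ * o ∈ nQ a b p) ∧
      coreC a ≤ normalizer (h.y0 : Set G) := by
  classical
  obtain ⟨z, hz, hz1⟩ := (bot_or_exists_ne_one (qP a b p)).resolve_left h.ne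
  obtain ⟨z', hz', c, hc, hsplit⟩ := h.zP_split (conj_mem_zP (coreC_le_cI a he) hz.1)
  have hc1 : c ≠ 1 := fun e1 => heK (h.mem_of_conj_mem hz hz1 (by
    rw [hsplit, e1, mul_one]; exact hz'))
  have hec : e * c⁻¹ * e⁻¹ = c⁻¹ := by rw [(hey c hc).inv_right.eq, mul_inv_cancel_right]
  have h1 : e⁻¹ * z * e = z' * c⁻¹ := by
    have hbz : b * z * b⁻¹ = z := by rw [← mem_cI.1 hz.2, mul_inv_cancel_right]
    have hbz' : b * z' * b⁻¹ = z' := by rw [← mem_cI.1 hz'.2, mul_inv_cancel_right]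
    calc e⁻¹ * z * e = (b * e * b⁻¹) * (b * z * b⁻¹) * (b * e * b⁻¹)⁻¹ := by
          rw [hei, hbz, inv_inv]
      _ = b * (e * z * e⁻¹) * b⁻¹ := by group
      _ = (b * z' * b⁻¹) * (b * c * b⁻¹) := by rw [hsplit]; group
      _ = z' * c⁻¹ := by rw [hbz', hc.2.2]
  have h2 : e * z' * e⁻¹ = z * c := by
    have : z = e * z' * e⁻¹ * (e * c⁻¹ * e⁻¹) := by
      calc z = e * (e⁻¹ * z * e) * e⁻¹ := by group
        _ = e * (z' * c⁻¹) * e⁻¹ := by rw [h1]
        _ = _ := by group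
    rw [hec] at this
    exact mul_inv_eq_iff_eq_mul.1 this.symm
  have h3 : e ^ 2 * z * (e ^ 2)⁻¹ = z * c ^ 2 := by
    calc e ^ 2 * z * (e ^ 2)⁻¹ = e * (e * z * e⁻¹) * e⁻¹ := by rw [pow_two]; group
      _ = (e * z' * e⁻¹) * (e * c * e⁻¹) := by rw [hsplit]; group
      _ = z * c ^ 2 := by rw [h2, (hey c hc).eq, mul_inv_cancel_right, mul_assoc, pow_two]
  have h4 : ∀ i : ℕ, e ^ (2 * i) * z * (e ^ (2 * i))⁻¹ = z * c ^ (2 * i) := by
    intro i
    induction i with
    | zero => simp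
    | succ i ih =>
      calc e ^ (2 * (i + 1)) * z * (e ^ (2 * (i + 1)))⁻¹
          = e ^ 2 * (e ^ (2 * i) * z * (e ^ (2 * i))⁻¹) * (e ^ 2)⁻¹ := by
            rw [show 2 * (i + 1) = 2 + 2 * i by ring, pow_add]; group
        _ = (e ^ 2 * z * (e ^ 2)⁻¹) * (e ^ 2 * c ^ (2 * i) * (e ^ 2)⁻¹) := by rw [ih]; group
        _ = _ := by
          rw [h3, ((hey c hc).pow_pow 2 (2 * i)).eq, mul_inv_cancel_right, mul_assoc, ← pow_add,
            show 2 * (i + 1) = 2 + 2 * i by ring]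
  haveI := h.fact
  have hinK : ∀ d : ℕ, e ^ (2 * d) ∈ nQ a b p → p ∣ d := by
    intro d hd
    have hq : z * c ^ (2 * d) ∈ qP a b p := h4 d ▸ (mem_normalizer_iff.1 hd z).1 hz
    have h5 : c ^ (2 * d) ∈ qP a b p := by
      simpa using mul_mem (inv_mem hz) hq
    have h6 : c ^ (2 * d) ∈ h.tK ⊓ coreK (nQ a b p) :=
      mem_inf.2 ⟨pow_mem hc.2 _, h.qP_le_coreK h5⟩
    rw [h.tK_inf_coreK, mem_bot, ← orderOf_dvd_iff_pow_eq_one,
      orderOf_eq_prime hc.1.2.2 hc1] at h6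
    exact ((Nat.coprime_primes h.mixed.hp Nat.prime_two).2 h.mixed.ne_two).dvd_of_dvd_mul_left h6
  let f : Fin p → coreC a ⧸ (nQ a b p).subgroupOf (coreC a) := fun i =>
    QuotientGroup.mk ⟨e ^ (2 * (i : ℕ)), pow_mem he _⟩
  have hf : Function.Injective f := by
    have key : ∀ i j : Fin p, (i : ℕ) ≤ j → f i = f j → i = j := by
      intro i j hij hfe
      have hm : (e ^ (2 * (i : ℕ)))⁻¹ * e ^ (2 * (j : ℕ)) ∈ nQ a b p :=
        mem_subgroupOf.1 (QuotientGroup.eq.1 hfe)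
      obtain ⟨d, hd⟩ := Nat.exists_eq_add_of_le hij
      rw [hd, mul_add, pow_add, inv_mul_cancel_left] at hm
      have hdp : d = 0 := Nat.eq_zero_of_dvd_of_lt (hinK d hm) (by have := j.2; omega)
      exact Fin.ext (by omega)
    intro i j hfe
    rcases le_total (i : ℕ) j with hle | hle
    · exact key i j hle hfe
    · exact (key j i hle hfe.symm).symm
  have hsurj : Function.Surjective f := by
    have : Fintype (coreC a ⧸ (nQ a b p).subgroupOf (coreC a)) := Fintype.ofFinite _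
    refine ((Fintype.bijective_iff_injective_and_card f).2 ⟨hf, le_antisymm
      (Fintype.card_le_of_injective f hf) ?_⟩).2
    rw [Fintype.card_fin, ← Nat.card_eq_fintype_card, ← index_eq_card]
    exact h.kap_le
  have hrep : ∀ o ∈ coreC a, ∃ i : ℕ, (e ^ i)⁻¹ * o ∈ nQ a b p := fun o ho => by
    obtain ⟨i, hi⟩ := hsurj (QuotientGroup.mk ⟨o, ho⟩)
    exact ⟨2 * (i : ℕ), mem_subgroupOf.1 (QuotientGroup.eq.1 hi)⟩
  refine ⟨hrep, fun o ho => mem_normalizer_iff_of_finite fun y hy => ?_⟩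
  obtain ⟨i, hi⟩ := hrep o ho
  set k := (e ^ i)⁻¹ * o
  obtain ⟨w, hw, v, hv, hk⟩ := h.exists_split (mem_inf.2 ⟨hi, mul_mem (inv_mem (pow_mem he i)) ho⟩ :
    k ∈ nQ a b p ⊓ coreC a)
  have hy' : w * y * w⁻¹ ∈ h.y0 :=
    ⟨conj_mem_zP (coreC_le_cI a hw.1) hy.1, h.W_conj_tK hw hy.2⟩
  rw [show o = e ^ i * (w * v) by rw [← hk]; exact (mul_inv_cancel_left _ _).symm,
    show e ^ i * (w * v) * y * (e ^ i * (w * v))⁻¹ = e ^ i * (w * (v * y * v⁻¹) * w⁻¹) * (e ^ i)⁻¹ by
      group, (h.tK_comm hv hy.2).eq, mul_inv_cancel_right, ((hey _ hy').pow_left i).eq,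
    mul_inv_cancel_right]
  exact hy'

/-- **Twice the number of conjugates is at most the inverted part plus one.** -/
theorem two_kap_le : 2 * kapQ a b p ≤ Nat.card h.tK + 1 := by
  classical
  have hp3 : 2 ≤ p := h.mixed.hp.two_le
  have hTpos : 0 < Nat.card h.tK := Nat.card_pos
  obtain ⟨t, ht⟩ := h.p_dvd_tK
  by_cases hN : ∀ o ∈ coreC a, o ∈ normalizer (h.y0 : Set G) → o ∈ nQ a b p
  · obtain ⟨y, hy, hy1⟩ := (bot_or_exists_ne_one h.y0).resolve_left fun e => by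
      have := h.card_y0; rw [e, card_bot] at this; omega
    let D := (coreC a ⧸ (nQ a b p).subgroupOf (coreC a))
    let F1 : D × {z : qP a b p // z ≠ 1} → G := fun x =>
      ((x.1.out : coreC a) : G) * ((x.2.1 : qP a b p) : G) * ((x.1.out : coreC a) : G)⁻¹
    let F2 : D × {z : h.y0 // z ≠ 1} → G := fun x =>
      ((x.1.out : coreC a) : G) * ((x.2.1 : h.y0) : G) * ((x.1.out : coreC a) : G)⁻¹
    have hF2 : Function.Injective F2 := by
      rintro ⟨c, z⟩ ⟨c', z'⟩ he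
      set o := ((c.out : coreC a) : G)
      set o' := ((c'.out : coreC a) : G)
      have he' : o * (z.1 : G) * o⁻¹ = o' * (z'.1 : G) * o'⁻¹ := he
      have hm : o'⁻¹ * o ∈ nQ a b p := by
        refine hN _ (mul_mem (inv_mem (SetLike.coe_mem _)) (SetLike.coe_mem _))
          (mem_normalizer_iff_of_finite fun w hw => ?_)
        rw [h.y0_gen z.1.2 (fun e => z.2 (Subtype.ext e))] at hw
        obtain ⟨i, rfl⟩ := hw
        rw [← conj_zpow, show o'⁻¹ * o * (z.1 : G) * (o'⁻¹ * o)⁻¹ = o'⁻¹ * (o * (z.1 : G) * o⁻¹) * o'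
          by group, he', show o'⁻¹ * (o' * (z'.1 : G) * o'⁻¹) * o' = (z'.1 : G) by group]
        exact zpow_mem z'.1.2 i
      have hc : c' = c := by
        rw [← c.out_eq, ← c'.out_eq]
        exact QuotientGroup.eq.2 (mem_subgroupOf.2 hm)
      subst hc
      exact Prod.ext rfl (Subtype.ext (Subtype.ext (mul_left_cancel (mul_right_cancel he'))))
    have key : Nat.card ((D × {z : qP a b p // z ≠ 1}) ⊕ (D × {z : h.y0 // z ≠ 1})) ≤
        Nat.card {x : zP a p // x ≠ 1} := by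
      refine Nat.card_le_card_of_injective (Sum.elim
        (fun x => ⟨⟨F1 x, h.orbit_mem x⟩, fun e => x.2.2 (Subtype.ext
          (conj_eq_one_iff.1 (congrArg Subtype.val e :)))⟩)
        (fun x => ⟨⟨F2 x, conj_mem_zP (coreC_le_cI a (SetLike.coe_mem _)) x.2.1.2.1⟩, fun e =>
          x.2.2 (Subtype.ext (conj_eq_one_iff.1 (congrArg Subtype.val e :)))⟩)) ?_
      refine Function.Injective.sumElim (fun x x' e => h.orbit_injective
        (congrArg (fun v : {x : zP a p // x ≠ 1} => ((v : zP a p) : G)) e))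
        (fun x x' e => hF2 (congrArg (fun v : {x : zP a p // x ≠ 1} => ((v : zP a p) : G)) e))
        fun x x' e => ?_
      have e' : F1 x = F2 x' := congrArg (fun v : {x : zP a p // x ≠ 1} => ((v : zP a p) : G)) e
      set o := ((x.1.out : coreC a) : G)
      set o' := ((x'.1.out : coreC a) : G)
      refine x.2.2 (Subtype.ext (h.eq_one_of_conj_inverted (o := o'⁻¹ * o)
        (mul_mem (inv_mem (SetLike.coe_mem _)) (SetLike.coe_mem _)) x.2.1.2 ?_))
      have e'' : o * ((x.2.1 : qP a b p) : G) * o⁻¹ = o' * ((x'.2.1 : h.y0) : G) * o'⁻¹ := e'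
      rw [show o'⁻¹ * o * ((x.2.1 : qP a b p) : G) * (o'⁻¹ * o)⁻¹ =
        o'⁻¹ * (o * ((x.2.1 : qP a b p) : G) * o⁻¹) * o' by group, e'',
        show o'⁻¹ * (o' * ((x'.2.1 : h.y0) : G) * o'⁻¹) * o' = ((x'.2.1 : h.y0) : G) by group]
      exact x'.2.1.2.2.2
    have := Fintype.ofFinite (h.y0)
    have := Fintype.ofFinite (zP a p)
    have e1 : Nat.card {z : h.y0 // z ≠ 1} = p - 1 := by
      rw [Nat.card_eq_fintype_card, Fintype.card_subtype_compl, Fintype.card_subtype_eq,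
        ← Nat.card_eq_fintype_card, h.card_y0]
    have e2 : Nat.card {x : zP a p // x ≠ 1} = p * p - 1 := by
      rw [Nat.card_eq_fintype_card, Fintype.card_subtype_compl, Fintype.card_subtype_eq,
        ← Nat.card_eq_fintype_card, h.card_zP']
    have e3 : Nat.card D = kapQ a b p := (index_eq_card _).symm
    rw [Nat.card_sum, h.card_orbit_dom, Nat.card_prod, e3, e1, e2] at key
    have hk : 2 * kapQ a b p ≤ p + 1 := by
      refine Nat.le_of_mul_le_mul_right (c := p - 1) ?_ (by omega)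
      obtain ⟨q, rfl⟩ : ∃ q, p = q + 1 := ⟨p - 1, by omega⟩
      simp only [Nat.add_sub_cancel] at key ⊢
      have : (q + 1) * (q + 1) - 1 = (q + 1 + 1) * q := by
        rw [show (q + 1) * (q + 1) = (q + 1 + 1) * q + 1 by ring, Nat.add_sub_cancel]
      linarith
    have : p ≤ Nat.card h.tK := Nat.le_of_dvd hTpos h.p_dvd_tK
    omega
  · push Not at hN
    obtain ⟨o, ho, hoN, hoK⟩ := hN
    obtain ⟨w, hw, e, he, hei, rfl⟩ := h.coreC_split ho
    have hwN : w ∈ normalizer (h.y0 : Set G) := mem_normalizer_iff_of_finite fun y hy =>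
      ⟨conj_mem_zP (coreC_le_cI a hw.1) hy.1, h.W_conj_tK hw hy.2⟩
    have heN : e ∈ normalizer (h.y0 : Set G) := by
      simpa using mul_mem (inv_mem hwN) hoN
    have heK : e ∉ nQ a b p := fun he' => hoK (mul_mem (h.W_le hw).1 he')
    have hey : ∀ y ∈ h.y0, Commute e y := by
      intro y hy
      have hy' := (mem_normalizer_iff.1 heN y).1 hy
      refine commute_of_conj_eq (odd_orderOf_mem_coreC he) ?_
      have h1 : b * y * b⁻¹ = y⁻¹ := hy.2.2
      calc e * y * e⁻¹ = ((e * y * e⁻¹)⁻¹)⁻¹ := (inv_inv _).symm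
        _ = (b * (e * y * e⁻¹) * b⁻¹)⁻¹ := by rw [hy'.2.2]
        _ = ((b * e * b⁻¹) * (b * y * b⁻¹) * (b * e * b⁻¹)⁻¹)⁻¹ := by group
        _ = e⁻¹ * y * e := by rw [hei, h1]; group
    have hkp := h.kap_le
    rcases Nat.lt_or_ge t 2 with ht2 | ht2
    · exfalso
      have hTp : Nat.card h.tK = p := by
        interval_cases t
        · omega
        · rw [ht, mul_one]
      obtain ⟨-, hn⟩ := h.pow_rep he hei heK hey
      have hY : h.y0 = h.yF := eq_of_le_of_card_ge h.y0_le_yF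
        ((Nat.le_of_dvd Nat.card_pos (card_dvd_of_le inf_le_right)).trans
          (hTp.trans h.card_y0.symm).le)
      exact heK (h.fitC_le_nQ (h.mem_fitC_of_commute he hei (fun y hy => hey y (hY ▸ hy)) (hY ▸ hn)))
    · have : p * 2 ≤ Nat.card h.tK := ht ▸ Nat.mul_le_mul_left p ht2
      omega

end Ov

end CfsgLib.GW.Alpha
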