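import Cfsg.Agent.Lib.GW.Component.Alpha.Twisted
import Cfsg.Agent.Lib.GW.Component.Alpha.Arith

/-!
**The central elements of order `p` of `F(O(C(a)))` meet `C(b)` trivially** when `b` neither
centralises nor avoids the `p`-core.
-/

set_option autoImplicit false
set_option linter.unusedSectionVars false
set_option linter.style.haveILetI false
set_option maxHeartbeats 1000000

namespace CfsgLib.GW.Alpha

open Subgroup CfsgLib.Invol CfsgLib.BlockA.DihedralBlock CfsgLib.Recog.GenDihedral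

universe u

variable {G : Type u} [Group G] [Finite G]

/-- The order formula with its parameters. -/
theorem order_params (P : Sylow 2 G) (D : DihData (P : Subgroup G)) (hh : 2 ≤ D.h)
    (hone : ∀ s t : G, orderOf s = 2 → orderOf t = 2 → IsConj s t) :
    ∃ (x : ℕ) (δ : ℤ), 1 ≤ x ∧ (δ = 1 ∨ δ = -1) ∧ (4 : ℤ) ∣ x - δ ∧ (x : ℤ) ≠ δ ∧
      (Nat.card G : ℚ) * ((x : ℚ) - δ) ^ 2 =
        2 * (x : ℚ) * ((x : ℚ) + δ) * (Nat.card (centralizer ({dz P D} : Set G)) : ℚ) ^ 3 *
          (1 / (Nat.card (centralizer ({dz P D, dt P D 0} : Set G)) : ℚ) +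
            1 / (Nat.card (centralizer ({dz P D, dt P D 1} : Set G)) : ℚ)) ^ 2 := by
  classical
  have := Fintype.ofFinite G
  obtain ⟨M, hM⟩ := CfsgLib.BlockB.exists_isPModular Nat.prime_two (p := 2)
  have := hM.2.1.isPrime
  obtain ⟨ζ, hζ⟩ : ∃ ζ : ℂ, IsPrimitiveRoot ζ (2 * D.h) :=
    ⟨_, Complex.isPrimitiveRoot_exp _ (by omega)⟩
  obtain ⟨χ₁, χ₂, χ₃, χ', δ₁, δ₂, δ₃, S⟩ := exists_shape hM P D hh hζ
  obtain ⟨hne, hord⟩ := order_formula hM P D hh hζ S hone
  set x := Cfsg.charDegree (χ₁ : G → ℂ) with hx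
  refine ⟨x, δ₁, by rw [hx]; exact CfsgLib.BlockB.irr_degree_pos χ₁, S.sgn₁, ?_, hne, hord⟩
  set R := zpowers (rot P D) with hR
  have := Fintype.ofFinite R
  obtain ⟨n, hn⟩ := CfsgLib.InvChar.BSW.sum_subgroup_eq R χ₁
  have ho : orderOf (rot P D) = 2 * D.h := orderOf_rot P D
  have hcard : Nat.card R = 2 * D.h := by rw [hR, Nat.card_zpowers, ho]
  have hval : ∀ v : R, (χ₁ : G → ℂ) v = (if v = 1 then (x : ℂ) - δ₁ else 0) + δ₁ := by
    intro v
    split_ifs with hv
    · rw [hv, sub_add_cancel, hx, CfsgLib.BlockB.irr_degree_cast]; rfl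
    · rw [zero_add]
      obtain ⟨l, hl⟩ := mem_powers_iff_mem_zpowers.2 v.2
      simp only at hl
      have := S.val₁ l fun hd => hv (Subtype.ext (by
        rw [← hl, OneMemClass.coe_one]
        exact orderOf_dvd_iff_pow_eq_one.1 (ho ▸ hd : orderOf (rot P D) ∣ l)))
      rwa [hl] at this
  rw [Finset.sum_congr rfl fun v _ => hval v, Finset.sum_add_distrib, Finset.sum_ite_eq',
    if_pos (Finset.mem_univ _), Finset.sum_const, Finset.card_univ, ← Nat.card_eq_fintype_card,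
    hcard, nsmul_eq_mul] at hn
  have hn' : (x : ℤ) - δ₁ = (2 * D.h : ℕ) * ((n : ℤ) - δ₁) := by
    apply Int.cast_injective (α := ℂ)
    push_cast
    push_cast at hn
    linear_combination hn
  rw [hn']
  obtain ⟨k, hk⟩ := D.h_pow
  rcases k with _ | k
  · simp at hk; omega
  · exact Dvd.dvd.mul_right (by rw [hk, pow_succ]; exact ⟨(2 ^ k : ℕ), by push_cast; ring⟩) _

namespace Ov

variable {a b g : G} {p : ℕ} (h : Ov a b g p)
include h

/-- The case of four-group Sylow subgroups. -/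
theorem false_of_klein {S : Sylow 2 G} (D : DihData (S : Subgroup G)) {i : ℤ} (hz : dz S D = a)
    (hi : dt S D i = b) (hSc : (S : Subgroup G) ≤ cI a) (hSK : (S : Subgroup G) ≤ nQ a b p)
    (hh : D.h = 1) {r : ℕ} (hr : r = (nQ a b p ⊓ cI a).relIndex (nQ a b p))
    (hlow : (4 * Nat.card h.tK - 1) * (4 * Nat.card h.tK - 2) ≤ 2 * r) : False := by
  set κ := kapQ a b p
  set T := Nat.card h.tK
  set W := Nat.card (coreC a ⊓ cI b : Subgroup G)
  set O := Nat.card (coreC a)
  set iH := (cI a).index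
  obtain ⟨f, -, hf, hG⟩ := klein_order_bounds S (isKleinFour_of_h_one S D hh) (SetLike.coe_mem D.z)
    (invol_ne_one ((Subgroup.orderOf_coe _).trans D.orderOf_z)) (fun _ _ hx hy => h.min.one_class hx hy)
  have hS : Nat.card (centralizer ((S : Subgroup G) : Set G)) = 4 * W := by
    have htop : ∀ u : (S : Subgroup G), u ∈ D.klein i := by
      intro u
      have : D.klein i = ⊤ := eq_top_of_card_eq _ (by
        rw [(D.klein_isKleinFour i).card_four, D.card_eq, hh])
      exact this ▸ mem_top u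
    rw [show centralizer ((S : Subgroup G) : Set G) = centralizer ({dz S D, dt S D i} : Set G) from ?_,
      card_centralizer_four h.min h.ha D hz hSc i, hi]
    refine le_antisymm (centralizer_le (Set.insert_subset (SetLike.coe_mem _)
      (Set.singleton_subset_iff.2 (SetLike.coe_mem _)))) fun x hx => mem_centralizer_iff.2 fun u hu => ?_
    have h1 := mem_centralizer_iff.1 hx _ (Set.mem_insert _ _)
    have h2 := mem_centralizer_iff.1 hx _ (Set.mem_insert_of_mem _ rfl)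
    rcases htop ⟨u, hu⟩ with e | e | e | e <;> have e' : u = _ := congrArg Subtype.val e <;> rw [e']
    · simp
    · exact h1
    · exact h2
    · exact ((show Commute (dz S D) x from h1).mul_left (show Commute (dt S D i) x from h2)).eq
  have hH : Nat.card (cI a) = O * 4 := by rw [h.card_cI hSc, D.card_eq, hh]
  have hGH : Nat.card G = iH * (O * 4) := by rw [← hH, index_mul_card]
  have hO : O = κ * (T * W) := h.kap_mul.symm
  rw [hS, show centralizer ({((D.z : (S : Subgroup G)) : G)} : Set G) = cI a by rw [← hz], hH, hGH,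
    hO] at hG
  push_cast at hG
  have hWpos : (0 : ℚ) < W := Nat.cast_pos.2 Nat.card_pos
  have hκpos : (0 : ℚ) < κ := Nat.cast_pos.2 (by have := h.three_le_kap; omega)
  have hTpos : (0 : ℚ) < T := Nat.cast_pos.2 Nat.card_pos
  have he : (iH : ℚ) = 8 * f * (κ * T) ^ 2 := by
    field_simp at hG
    have hpos : (0 : ℚ) < 4 * κ * T * W := by positivity
    nlinarith
  have hle : iH ≤ 15 * (κ * T) ^ 2 := by
    have : (iH : ℚ) ≤ (15 * (κ * T) ^ 2 : ℕ) := by
      push_cast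
      rw [he]
      nlinarith [sq_nonneg ((κ : ℚ) * T)]
    exact_mod_cast this
  have hidx := h.index_mul_relIndex hSc hSK
  have hcount := h.count
  rw [← hr] at hidx hcount
  refine klein_false h.three_le_kap h.two_kap_le hlow ?_
  calc (κ - 1) * r * r ≤ (nQ a b p).index * r := Nat.mul_le_mul_right _ hcount
    _ = iH * κ := hidx.symm
    _ ≤ 15 * (κ * T) ^ 2 * κ := Nat.mul_le_mul_right _ hle
    _ = 15 * κ ^ 3 * T ^ 2 := by ring

/-- The order of `G` for dihedral Sylow subgroups of order at least eight. -/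
theorem index_eq {S : Sylow 2 G} (D : DihData (S : Subgroup G)) {i : ℤ} (hz : dz S D = a)
    (hi : dt S D i = b) (hSc : (S : Subgroup G) ≤ cI a) (hh : 2 ≤ D.h) {J : ℕ}
    (hJ : Nat.card (coreC a) = J * Nat.card (coreC a ⊓ cI (dt S D (i + 1)) : Subgroup G)) :
    ∃ (x : ℕ) (δ : ℤ), 1 ≤ x ∧ (δ = 1 ∨ δ = -1) ∧ (4 : ℤ) ∣ x - δ ∧ (x : ℤ) ≠ δ ∧
      ((cI a).index : ℤ) * ((x : ℤ) - δ) ^ 2 =
        2 * (D.h : ℤ) ^ 2 * ((kapQ a b p : ℤ) * Nat.card h.tK + J) ^ 2 * ((x : ℤ) * (x + δ)) := by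
  obtain ⟨x, δ, hx, hδ, h4, hne, hord⟩ :=
    order_params S D hh (fun _ _ hx hy => h.min.one_class hx hy)
  refine ⟨x, δ, hx, hδ, h4, hne, ?_⟩
  set κ := kapQ a b p
  set T := Nat.card h.tK
  set W := Nat.card (coreC a ⊓ cI b : Subgroup G)
  set Ws := Nat.card (coreC a ⊓ cI (dt S D (i + 1)) : Subgroup G)
  set O := Nat.card (coreC a)
  set iH := (cI a).index
  have hsum : (1 / (Nat.card (centralizer ({dz S D, dt S D 0} : Set G)) : ℚ) +
      1 / (Nat.card (centralizer ({dz S D, dt S D 1} : Set G)) : ℚ)) =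
      1 / (4 * W : ℕ) + 1 / (4 * Ws : ℕ) := by
    rw [card_centralizer_four h.min h.ha D hz hSc, card_centralizer_four h.min h.ha D hz hSc]
    rcases Int.even_or_odd' i with ⟨e, rfl | rfl⟩
    · rw [show W = Nat.card (coreC a ⊓ cI (dt S D 0) : Subgroup G) by
          rw [← card_coreC_inf_dt D hSc 0 e, zero_add, hi],
        show Ws = Nat.card (coreC a ⊓ cI (dt S D 1) : Subgroup G) by
          rw [← card_coreC_inf_dt D hSc 1 e, add_comm (1 : ℤ)]]
    · rw [show W = Nat.card (coreC a ⊓ cI (dt S D 1) : Subgroup G) by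
          rw [← card_coreC_inf_dt D hSc 1 e, add_comm (1 : ℤ), hi],
        show Ws = Nat.card (coreC a ⊓ cI (dt S D 0) : Subgroup G) by
          rw [← card_coreC_inf_dt D hSc 0 (e + 1), show (0 : ℤ) + 2 * (e + 1) = 2 * e + 1 + 1 by ring],
        add_comm]
  have hH : Nat.card (cI a) = O * (4 * D.h) := by rw [h.card_cI hSc, D.card_eq]
  have hGH : Nat.card G = iH * (O * (4 * D.h)) := by rw [← hH, index_mul_card]
  rw [hsum, show centralizer ({dz S D} : Set G) = cI a by rw [hz], hH, hGH] at hord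
  push_cast at hord
  have hW : (0 : ℚ) < W := Nat.cast_pos.2 Nat.card_pos
  have hWs : (0 : ℚ) < Ws := Nat.cast_pos.2 Nat.card_pos
  have hO : (0 : ℚ) < O := Nat.cast_pos.2 Nat.card_pos
  have hhq : (0 : ℚ) < D.h := Nat.cast_pos.2 D.h_pos
  have e1 : (1 : ℚ) / (4 * W) = κ * T / (4 * O) := by
    rw [show (O : ℚ) = κ * (T * W) by exact_mod_cast h.kap_mul.symm]
    field_simp
    have h1 : (0 : ℚ) < κ := Nat.cast_pos.2 (by have := h.three_le_kap; omega)
    have h2 : (0 : ℚ) < T := Nat.cast_pos.2 Nat.card_pos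
    field_simp
  have e2 : (1 : ℚ) / (4 * Ws) = J / (4 * O) := by
    rw [show (O : ℚ) = J * Ws by exact_mod_cast hJ]
    have h1 : (0 : ℚ) < J := by
      refine Nat.cast_pos.2 (Nat.pos_of_ne_zero fun e => ?_)
      rw [e, zero_mul] at hJ
      exact (Nat.card_pos (α := coreC a)).ne' hJ
    field_simp
  rw [e1, e2, ← add_div] at hord
  have key : (iH : ℚ) * ((x : ℚ) - δ) ^ 2 =
      2 * (D.h : ℚ) ^ 2 * ((κ : ℚ) * T + J) ^ 2 * ((x : ℚ) * (x + δ)) := by
    field_simp at hord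
    have hpos : (0 : ℚ) < O * D.h := mul_pos hO hhq
    refine mul_left_cancel₀ hpos.ne' ?_
    nlinarith
  exact_mod_cast key

theorem false_of_dihedral {S : Sylow 2 G} (D : DihData (S : Subgroup G)) {i : ℤ} (hz : dz S D = a)
    (hi : dt S D i = b) (hSc : (S : Subgroup G) ≤ cI a) (hSK : (S : Subgroup G) ≤ nQ a b p)
    (hI : InvMod (nQ a b p) a) (hh : 2 ≤ D.h) {q cl rL r : ℕ}
    (hr : r = (nQ a b p ⊓ cI a).relIndex (nQ a b p)) (hrpos : 0 < r)
    (hcl : 2 * D.h * Nat.card h.tK ∣ cl) (hclpos : 0 < cl) (hclq : cl ≤ q + 1)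
    (hrL : 2 * rL = q * (q - 1) ∨ 2 * rL = q * (q + 1)) (hrdvd : rL ∣ r) : False := by
  set κ := kapQ a b p with hκdef
  set T := Nat.card h.tK with hTdef
  have hlow : (2 * D.h * T - 1) * (2 * D.h * T - 2) ≤ 2 * r := by
    refine size_le (m := 2 * D.h) hcl hclpos hclq hrL hrdvd hrpos ?_
    have : 1 ≤ D.h * T := Nat.mul_pos D.h_pos Nat.card_pos
    linarith
  have hidx := h.index_mul_relIndex hSc hSK
  have hcount := h.count
  rw [← hr] at hidx hcount
  have hbound : ∀ J : ℕ,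
      Nat.card (coreC a) = J * Nat.card (coreC a ⊓ cI (dt S D (i + 1)) : Subgroup G) →
      4 * ((κ - 1) * r * r) ≤ 15 * κ * D.h ^ 2 * (κ * T + J) ^ 2 := by
    intro J hJ
    obtain ⟨x, δ, hx, hδ, h4, hne, hord⟩ := h.index_eq D hz hi hSc hh hJ
    obtain ⟨-, b2⟩ := dihedral_bounds (by exact_mod_cast hx) hδ h4 hne
    have hsq : (0 : ℤ) < ((x : ℤ) - δ) ^ 2 := pow_two_pos_of_ne_zero (sub_ne_zero.2 hne)
    have hle : 4 * (cI a).index ≤ 15 * D.h ^ 2 * (κ * T + J) ^ 2 := by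
      have : (4 * (cI a).index : ℤ) ≤ 15 * (D.h : ℤ) ^ 2 * ((κ : ℤ) * T + J) ^ 2 := by
        refine le_of_mul_le_mul_right ?_ hsq
        nlinarith [mul_le_mul_of_nonneg_left b2
          (show (0 : ℤ) ≤ (D.h : ℤ) ^ 2 * ((κ : ℤ) * T + J) ^ 2 by positivity)]
      exact_mod_cast this
    calc 4 * ((κ - 1) * r * r) ≤ 4 * ((nQ a b p).index * r) :=
          Nat.mul_le_mul_left _ (Nat.mul_le_mul_right _ hcount)
      _ = (4 * (cI a).index) * κ := by rw [← hidx, mul_assoc]
      _ ≤ 15 * D.h ^ 2 * (κ * T + J) ^ 2 * κ := Nat.mul_le_mul_right _ hle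
      _ = _ := by ring
  set s := dt S D (i + 1) with hs
  have hs2 : orderOf s = 2 := (Subgroup.orderOf_coe _).trans (D.orderOf_zy _)
  have hsc : s ∈ cI a := hSc (SetLike.coe_mem _)
  have hsK : s ∈ nQ a b p := hSK (SetLike.coe_mem _)
  have hne : s ≠ a := fun e => D.ne_zpow (i + 1) _ (Subtype.ext (e.trans hz.symm))
  by_cases hsQ : ∀ z ∈ qP a b p, Commute s z
  · have hJ := h.card_eq_of_fixed hI hs2 hsc hne hsQ
    rw [← mul_assoc] at hJ
    exact fixed_false h.three_le_kap h.two_kap_le hh hlow (hbound _ hJ)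
  have hsZ := h.inverts_zP hI hs2 hsK hsc hne hsQ
  have hJ := h.card_eq_of_moved hI hs2 hsK hsc hne hsZ
  have hh' : D.h = 2 ∨ 4 ≤ D.h := by
    obtain ⟨k, hk⟩ := D.h_pow
    rcases k with _ | _ | k
    · simp at hk; omega
    · exact Or.inl (by simpa using hk)
    · exact Or.inr (by rw [hk, pow_succ, pow_succ]; have := Nat.one_le_two_pow (n := k); omega)
  obtain ⟨hT5, hκ3, hh2, hj5⟩ := moved_eq h.three_le_kap h.odd_kap h.odd_tK h.two_kap_le hh'
    (h.card_JSet_le hI hs2 hsK hsc hne hsZ) hlow (hbound _ hJ)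
  obtain ⟨x, δ, hx, hδ, h4, hne', hord⟩ := h.index_eq D hz hi hSc hh hJ
  have hup := hbound _ hJ
  rw [← hκdef] at hκ3 hord
  rw [← hTdef] at hT5 hord hup
  rw [hT5, hκ3, hh2, hj5] at hup hord
  rw [← hκdef, hκ3] at hidx hcount
  rw [hh2, hT5] at hcl
  refine final_false (x := x) (δ := δ) hcl hclpos hclq hrL hrdvd hrpos hup hidx hcount hx hδ h4 hne' ?_
  push_cast at hord ⊢
  linarith

theorem false : False := by
  classical
  obtain ⟨S, D, i, hz, hi, hSc⟩ := exists_data h.min h.ha h.hb h.b_mem_cI h.hne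
  have hSK := h.sylow_le D hz hi hSc
  have hκ := h.three_le_kap
  have hκT := h.two_kap_le
  have h3 : ¬ Nat.card h.tK ∣ 3 := fun h3 => by
    have := Nat.le_of_dvd (by norm_num) h3
    omega
  have hI : InvMod (nQ a b p) a := by
    rcases alt_or_inverts h.min h.nQ_ne_top h.ha h.a_mem with ⟨-, hV⟩ | hinv
    · exact absurd (hV h.tK h.tK_le h.tK_inf_coreK) h3
    · exact hinv
  obtain ⟨q, cl, rL, hclpos, h4T, hmT, hclq, hrL, hrdvd⟩ := exists_size h.min h.nQ_ne_top h.ha h.a_mem h.b_mem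
    h.coreK_le_a S D hSK hz h.tK_le h.tK_inf_coreK (fun v hv => hv.2) h3
  set r := (nQ a b p ⊓ cI a).relIndex (nQ a b p) with hr
  have hrpos : 0 < r := Nat.pos_of_ne_zero index_ne_zero_of_finite
  rcases Nat.lt_or_ge D.h 2 with hh | hh
  · refine h.false_of_klein D hz hi hSc hSK (by have := D.h_pos; omega) hr ?_
    refine size_le (m := 4) h4T hclpos hclq hrL hrdvd hrpos ?_
    have := Nat.card_pos (α := h.tK); omega
  · exact h.false_of_dihedral D hz hi hSc hSK hI hh hr hrpos hmT hclpos hclq hrL hrdvd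

end Ov

end CfsgLib.GW.Alpha

namespace CfsgLib.GW

universe u

/-- **The component leg, `α`.** -/
theorem alpha {G : Type u} [Group G] [Finite G] (M : Min G)
    (hmax : ∀ x : G, orderOf x = 2 → IsCoatom (cI x)) {a b g : G} {p : ℕ} (h : Mixed a b g p) :
    zP a p ⊓ cI b = ⊥ :=
  of_not_not fun hne => (Alpha.Ov.false ⟨M, hmax, h, hne⟩)

end CfsgLib.GW
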