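import Cfsg.Agent.Lib.GW.ShapePGL
import Cfsg.Agent.Lib.Recog.SuborbitThree.PSLFacts
import Cfsg.Agent.Lib.Geom.RedundantPSL

/-!
Further facts on the involution centralisers of `PGL₂(q)`, `q` odd.
-/

set_option autoImplicit false
set_option linter.unusedSectionVars false
set_option linter.style.haveILetI false

namespace CfsgLib.GW.PGL

open Subgroup Matrix CfsgLib.Geom.Moebius
open scoped MatrixGroups

variable {F : Type} [Field F] [Fintype F]

theorem commute_of_cyclic {G : Type*} [Group G] {T : Subgroup G} (hT : IsCyclic T) {x y : G}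
    (hx : x ∈ T) (hy : y ∈ T) : Commute x y := by
  haveI := hT
  exact congrArg Subtype.val ((inferInstance : IsMulCommutative T).is_comm.comm ⟨x, hx⟩ ⟨y, hy⟩)

/-- An involution commuting with `a` inverts the elements of odd order centralised by `a`. -/
theorem inverts_of_commute (hodd : Odd (Fintype.card F)) {a j x : PGL(2, F)} (ha : orderOf a = 2)
    (hj : orderOf j = 2) (hne : j ≠ a) (hja : Commute j a) (hx : Commute x a)
    (ho : Odd (orderOf x)) : j * x * j⁻¹ = x⁻¹ := by
  have := finite_pgl_two (F := F)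
  obtain ⟨T, hT, haT, -, -, hall, -⟩ := exists_torus hodd ha (Commute.refl a) (ne_one_of_two ha)
  have hxT : x ∈ T := (hall x hx ).elim id fun h => by rw [dvd_two h ho]; exact one_mem T
  have hjT : j ∉ T := fun h => hne (invol_unique hT h haT hj ha)
  rcases hall (j * x) (hja.mul_left hx) with h | h
  · exact absurd ((mul_mem_cancel_right hxT).1 h) hjT
  · have hji : j⁻¹ = j := CfsgLib.Invol.invol_inv hj
    refine eq_inv_of_mul_eq_one_left ?_
    rw [hji, ← h]
    group

/-- The Sylow subgroup over a torus element is centralised by its involution. -/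
theorem sylow_le_centralizer (hodd : Odd (Fintype.card F)) {p : ℕ} [Fact p.Prime] (hp2 : p ≠ 2)
    {a x : PGL(2, F)} (ha : orderOf a = 2) (hxa : Commute x a) (hx : x ≠ 1)
    (P : Sylow p PGL(2, F)) (hxP : x ∈ (P : Subgroup PGL(2, F))) :
    (P : Subgroup PGL(2, F)) ≤ centralizer ({a} : Set PGL(2, F)) := by
  have := finite_pgl_two (F := F)
  have hne : ∀ y ∈ (P : Subgroup PGL(2, F)), y ≠ 1 → y * y ≠ 1 := fun y hy hy1 h => hy1 (dvd_two h (by
    obtain ⟨k, hk⟩ := P.2 ⟨y, hy⟩
    exact (((Fact.out : p.Prime).odd_of_ne_two hp2).pow).of_dvd_nat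
      (orderOf_dvd_of_pow_eq_one (congrArg Subtype.val hk :))))
  haveI : Nontrivial (P : Subgroup PGL(2, F)) :=
    ⟨⟨x, hxP⟩, 1, fun h => hx (congrArg Subtype.val h)⟩
  haveI := P.2.center_nontrivial
  obtain ⟨⟨z, hzc⟩, hz1⟩ := exists_ne (1 : center (P : Subgroup PGL(2, F)))
  have hz1' : (z : PGL(2, F)) ≠ 1 := fun h => hz1 (Subtype.ext (Subtype.ext h))
  have hzc' : ∀ y ∈ (P : Subgroup PGL(2, F)), Commute y (z : PGL(2, F)) := fun y hy =>
    congrArg Subtype.val (mem_center_iff.1 hzc ⟨y, hy⟩)
  -- the central element commutes with `a`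
  obtain ⟨T, hT, hxT, -, hle, -, -⟩ := exists_torus hodd ha hxa hx
  have hxx := hne x hxP hx
  have hza : Commute (z : PGL(2, F)) a := commute_of_cyclic hT
    (hle hxx (mem_centralizer_singleton_iff.2 (hzc' x hxP).symm.eq))
    (hle hxx (mem_centralizer_singleton_iff.2 hxa.symm.eq))
  obtain ⟨T', hT', -, -, hle', -, -⟩ := exists_torus hodd ha hza hz1'
  have hzz := hne _ z.2 hz1'
  intro y hy
  exact mem_centralizer_singleton_iff.2 (commute_of_cyclic hT'
    (hle' hzz (mem_centralizer_singleton_iff.2 (hzc' y hy).eq))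
    (hle' hzz (mem_centralizer_singleton_iff.2 hza.symm.eq))).eq

/-- Involutions centralising nontrivial elements of order a power of the same odd prime are
conjugate. -/
theorem conj_of_torus (hodd : Odd (Fintype.card F)) {p : ℕ} (hp : p.Prime) (hp2 : p ≠ 2)
    {a j x u : PGL(2, F)} (ha : orderOf a = 2) (hj : orderOf j = 2) (hxa : Commute x a)
    (huj : Commute u j) (hx1 : x ≠ 1) (hu1 : u ≠ 1) (hx : ∃ k, x ^ p ^ k = 1)
    (hu : ∃ k, u ^ p ^ k = 1) : ∃ g, g * a * g⁻¹ = j := by
  have := finite_pgl_two (F := F)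
  haveI := Fact.mk hp
  have hz : ∀ {y : PGL(2, F)}, (∃ k, y ^ p ^ k = 1) → IsPGroup p (zpowers y) := by
    rintro y ⟨k, hk⟩
    obtain ⟨i, -, hi⟩ := (Nat.dvd_prime_pow hp).1 (orderOf_dvd_of_pow_eq_one hk)
    exact IsPGroup.of_card (n := i) (by rw [Nat.card_zpowers, hi])
  obtain ⟨P, hP⟩ := (hz hx).exists_le_sylow
  obtain ⟨P', hP'⟩ := (hz hu).exists_le_sylow
  obtain ⟨g, hg⟩ := MulAction.exists_smul_eq PGL(2, F) P P'
  have huP : u ∈ (P' : Subgroup PGL(2, F)) := hP' (mem_zpowers u)
  have hga : ∀ y ∈ (P' : Subgroup PGL(2, F)), Commute y (g * a * g⁻¹) := by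
    intro y hy
    rw [← hg] at hy
    obtain ⟨w, hw, rfl⟩ := hy
    have h := mem_centralizer_singleton_iff.1
      (sylow_le_centralizer hodd hp2 ha hxa hx1 P (hP (mem_zpowers x)) hw)
    show g * w * g⁻¹ * (g * a * g⁻¹) = g * a * g⁻¹ * (g * w * g⁻¹)
    calc g * w * g⁻¹ * (g * a * g⁻¹) = g * (w * a) * g⁻¹ := by group
      _ = g * (a * w) * g⁻¹ := by rw [h]
      _ = _ := by group
  obtain ⟨T, hT, -, -, hle, -, -⟩ := exists_torus hodd hj huj hu1
  have huu : u * u ≠ 1 := fun h => hu1 (dvd_two h (by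
    obtain ⟨k, hk⟩ := hu
    exact (hp.odd_of_ne_two hp2).pow.of_dvd_nat (orderOf_dvd_of_pow_eq_one hk)))
  exact ⟨g, invol_unique hT (hle huu (mem_centralizer_singleton_iff.2 (hga u huP).symm.eq))
    (hle huu (mem_centralizer_singleton_iff.2 huj.symm.eq))
    (by rw [CfsgLib.Invol.orderOf_conj_eq, ha]) hj⟩

/-- The centraliser of an involution in `PSL₂(q)`, inner or outer, has order `q ± 1`. -/
theorem card_centralizer_imL (hodd : Odd (Fintype.card F)) (h4 : 4 ≤ Fintype.card F)
    {a : PGL(2, F)} (ha : orderOf a = 2) :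
    Nat.card (centralizer ({a} : Set PGL(2, F)) ⊓ imL F : Subgroup PGL(2, F)) = Fintype.card F - 1 ∨
    Nat.card (centralizer ({a} : Set PGL(2, F)) ⊓ imL F : Subgroup PGL(2, F)) = Fintype.card F + 1 := by
  have := finite_pgl_two (F := F)
  set C := centralizer ({a} : Set PGL(2, F)) with hC
  by_cases haL : a ∈ imL F
  · have himL : imL F = (Matrix.ProjectiveSpecialLinearGroup.toPGL (n := Fin 2) (R := F)).range := rfl
    rw [himL] at haL ⊢
    obtain ⟨i, hi⟩ := haL
    have hi2 : orderOf i = 2 := by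
      rw [← orderOf_injective _ Matrix.ProjectiveSpecialLinearGroup.toPGL_injective i, hi, ha]
    have hmap : C ⊓ (Matrix.ProjectiveSpecialLinearGroup.toPGL (n := Fin 2) (R := F)).range =
        (centralizer ({i} : Set (Matrix.ProjectiveSpecialLinearGroup (Fin 2) F))).map
          Matrix.ProjectiveSpecialLinearGroup.toPGL := by
      ext y
      constructor
      · rintro ⟨hy, u, rfl⟩
        refine ⟨u, mem_centralizer_singleton_iff.2 ?_, rfl⟩
        apply Matrix.ProjectiveSpecialLinearGroup.toPGL_injective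
        rw [map_mul, map_mul, hi]
        exact mem_centralizer_singleton_iff.1 hy
      · rintro ⟨u, hu, rfl⟩
        refine ⟨mem_centralizer_singleton_iff.2 ?_, u, rfl⟩
        rw [← hi, ← map_mul, ← map_mul, mem_centralizer_singleton_iff.1 hu]
    rw [hmap, card_map_of_injective Matrix.ProjectiveSpecialLinearGroup.toPGL_injective]
    exact CfsgLib.Recog.SuborbitThree.card_centralizer_involution_psl hodd h4 hi2
  · obtain ⟨T, hT, haT, hcard, -, hall, hswap⟩ :=
      exists_torus hodd ha (Commute.refl a) (ne_one_of_two ha)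
    obtain ⟨s, hs, hsT⟩ := hswap (CfsgLib.Invol.invol_mul_self ha)
    have hTC : T ≤ C := fun t ht => mem_centralizer_singleton_iff.2 (commute_of_cyclic hT ht haT).eq
    have hinvol : ∀ y ∈ C, y ∉ T → y * y = 1 := fun y hy hyT =>
      (hall y (mem_centralizer_singleton_iff.1 hy)).resolve_left hyT
    have hflip : ∀ y ∈ C, y ∉ T → ∀ t ∈ T, y * t * y = t⁻¹ := fun y hy hyT t ht => by
      have h1 := hinvol (y * t) (mul_mem hy (hTC ht)) fun h => hyT ((mul_mem_cancel_right ht).1 h)
      calc y * t * y = (y * t) * (y * t) * t⁻¹ := by group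
        _ = t⁻¹ := by rw [h1, one_mul]
    -- `T` has index two
    have hidx : (T.subgroupOf C).index = 2 := by
      refine index_eq_two_iff.2 ⟨⟨s, mem_centralizer_singleton_iff.2 hs.eq⟩, fun y => ?_⟩
      by_cases hy : (y : PGL(2, F)) ∈ T
      · refine Or.inr ⟨mem_subgroupOf.2 hy, fun h => hsT ?_⟩
        exact (mul_mem_cancel_left hy).1 (mem_subgroupOf.1 h)
      · refine Or.inl ⟨mem_subgroupOf.2 ?_, fun h => hy (mem_subgroupOf.1 h)⟩
        show (y : PGL(2, F)) * s ∈ T
        by_contra hys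
        have hsC : s ∈ C := mem_centralizer_singleton_iff.2 hs.eq
        have hyy := hinvol _ y.2 hy
        have hss := hinvol _ hsC hsT
        have h1 := hinvol _ (mul_mem y.2 hsC) hys
        -- then `T` has exponent two
        have hexp : ∀ t ∈ T, t * t = 1 := fun t ht => by
          have e1 := hflip _ (mul_mem y.2 hsC) hys t ht
          have hsy : (y : PGL(2, F)) * s = s * y := by
            calc (y : PGL(2, F)) * s = ((y : PGL(2, F)) * s)⁻¹ := by
                  rw [eq_comm, inv_eq_iff_mul_eq_one]; exact h1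
              _ = s⁻¹ * (y : PGL(2, F))⁻¹ := mul_inv_rev _ _
              _ = s * y := by
                rw [inv_eq_of_mul_eq_one_right hss, inv_eq_of_mul_eq_one_right hyy]
          have e2 : (y : PGL(2, F)) * s * t * ((y : PGL(2, F)) * s) = t := by
            nth_rw 2 [hsy]
            calc (y : PGL(2, F)) * s * t * (s * y) = (y : PGL(2, F)) * (s * t * s) * y := by group
              _ = (y : PGL(2, F)) * t⁻¹ * y := by rw [hflip s hsC hsT t ht]
              _ = t := by rw [hflip _ y.2 hy _ (inv_mem ht), inv_inv]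
          rw [e2] at e1
          nth_rw 1 [e1]
          exact inv_mul_cancel t
        haveI := hT
        obtain ⟨t₀, ht₀⟩ := IsCyclic.exists_generator (α := T)
        have h2 : Nat.card T ≤ 2 := by
          rw [← orderOf_eq_card_of_forall_mem_zpowers ht₀]
          exact Nat.le_of_dvd two_pos (orderOf_dvd_of_pow_eq_one (by
            rw [pow_two]; exact Subtype.ext (hexp _ t₀.2)))
        rcases hcard with e | e <;> omega
    have hC2 : Nat.card C = 2 * Nat.card T := by
      have h := (T.subgroupOf C).card_mul_index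
      rw [hidx, Nat.card_congr (subgroupOfEquivOfLe hTC).toEquiv] at h
      omega
    have hL2 : ((C ⊓ imL F).subgroupOf C).index = 2 := by
      have haC : a ∈ C := mem_centralizer_singleton_iff.2 rfl
      refine index_eq_two_iff.2 ⟨⟨a, haC⟩, fun y => ?_⟩
      have h2 := (mul_mem_iff_of_index_two (imL_index hodd) (a := (y : PGL(2, F))) (b := a))
      by_cases hy : (y : PGL(2, F)) ∈ imL F
      · exact Or.inr ⟨mem_subgroupOf.2 ⟨y.2, hy⟩, fun h => haL ((h2.1 (mem_subgroupOf.1 h).2).1 hy)⟩
      · exact Or.inl ⟨mem_subgroupOf.2 ⟨mul_mem y.2 haC, h2.2 ⟨fun h => absurd h hy, fun h => absurd h haL⟩⟩,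
          fun h => hy (mem_subgroupOf.1 h).2⟩
    have h := ((C ⊓ imL F).subgroupOf C).card_mul_index
    rw [hL2, Nat.card_congr (subgroupOfEquivOfLe (inf_le_left : C ⊓ imL F ≤ C)).toEquiv, hC2] at h
    rcases hcard with e | e
    · left; omega
    · right; omega

end CfsgLib.GW.PGL
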