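import Cfsg.Agent.Lib.GW.Basic
import Cfsg.Agent.Lib.GW.Quadratic

/-!
Tools for the component leg when the central elements of order `p` meet `C(b)`: elements of odd
order moved by an involution.
-/

set_option autoImplicit false
set_option linter.unusedSectionVars false
set_option linter.style.haveILetI false

namespace CfsgLib.GW.Alpha

open Subgroup CfsgLib.Invol

universe u

variable {G : Type u} [Group G]

/-- An element of odd order is the square of one of its powers. -/
theorem exists_sq_root {x : G} (ho : Odd (orderOf x)) : ∃ n : ℕ, x ^ n * x ^ n = x := by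
  obtain ⟨m, hm⟩ := ho
  exact ⟨m + 1, by
    rw [← pow_add, show m + 1 + (m + 1) = orderOf x + 1 by omega, pow_succ, pow_orderOf_eq_one,
      one_mul]⟩

/-- If the square of an element of odd order commutes with `v`, so does the element. -/
theorem commute_of_mul_self {x v : G} (ho : Odd (orderOf x)) (h : Commute (x * x) v) :
    Commute x v := by
  obtain ⟨n, hn⟩ := exists_sq_root ho
  have h1 : x = (x * x) ^ n := by
    rw [← pow_two, ← pow_mul, two_mul, pow_add, hn]
  rw [h1]
  exact h.pow_left n

/-- An element of odd order moving `v` as its inverse does commutes with `v`. -/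
theorem commute_of_conj_eq {x v : G} (ho : Odd (orderOf x)) (h : x * v * x⁻¹ = x⁻¹ * v * x) :
    Commute x v := by
  refine commute_of_mul_self ho ?_
  calc x * x * v = x * (x * v * x⁻¹) * x := by group
    _ = x * (x⁻¹ * v * x) * x := by rw [h]
    _ = v * (x * x) := by group

/-- An element of odd order equal to its inverse is trivial. -/
theorem eq_one_of_inv_eq {x : G} (ho : Odd (orderOf x)) (h : x⁻¹ = x) : x = 1 :=
  eq_one_of_sq_of_odd (by nth_rw 1 [← h]; exact inv_mul_cancel x) ho

theorem odd_of_mem {O : Subgroup G} [Finite G] (hO : Odd (Nat.card O)) {x : G} (hx : x ∈ O) :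
    Odd (orderOf x) := hO.of_dvd_nat (Subgroup.orderOf_dvd_natCard _ hx)

/-- An element of odd order centralised and inverted is trivial. -/
theorem eq_one_of_fixed_inverted {t x : G} (ho : Odd (orderOf x)) (hf : Commute t x)
    (hi : t * x * t⁻¹ = x⁻¹) : x = 1 := by
  refine eq_one_of_inv_eq ho ?_
  rw [← hi, hf.eq, mul_inv_cancel_right]

/-- An involution conjugates back. -/
theorem conj_invol_twice {t : G} (ht : t * t = 1) (x : G) : t * (t * x * t⁻¹) * t⁻¹ = x := by
  have hti : t⁻¹ = t := inv_eq_of_mul_eq_one_right ht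
  calc t * (t * x * t⁻¹) * t⁻¹ = (t * t) * x * (t⁻¹ * t⁻¹) := by group
    _ = x := by rw [hti, ht, one_mul, mul_one]

variable [Finite G]

/-- An element of an odd subgroup normalised by an involution is a fixed element times an inverted
one. -/
theorem exists_fixed_mul_inv {O : Subgroup G} (hO : Odd (Nat.card O)) {t : G} (ht : t * t = 1)
    (htO : ∀ x ∈ O, t * x * t⁻¹ ∈ O) {o : G} (ho : o ∈ O) :
    ∃ w v : G, w ∈ O ∧ v ∈ O ∧ o = w * v ∧ Commute t w ∧ t * v * t⁻¹ = v⁻¹ := by
  set x := o⁻¹ * (t * o * t⁻¹) with hx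
  have hxO : x ∈ O := mul_mem (inv_mem ho) (htO o ho)
  have hxi : t * x * t⁻¹ = x⁻¹ := by
    have e : t * x * t⁻¹ = (t * o * t⁻¹)⁻¹ * (t * (t * o * t⁻¹) * t⁻¹) := by rw [hx]; group
    rw [e, conj_invol_twice ht, hx]
    group
  obtain ⟨n, hn⟩ := exists_sq_root (odd_of_mem hO hxO)
  have hv : t * x ^ n * t⁻¹ = (x ^ n)⁻¹ := by rw [← conj_pow, hxi, inv_pow]
  refine ⟨o * x ^ n, (x ^ n)⁻¹, mul_mem ho (pow_mem hxO n), inv_mem (pow_mem hxO n), by group, ?_,
    by rw [show t * (x ^ n)⁻¹ * t⁻¹ = (t * x ^ n * t⁻¹)⁻¹ by group, hv]⟩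
  refine mul_inv_eq_iff_eq_mul.1 ?_
  calc t * (o * x ^ n) * t⁻¹ = (t * o * t⁻¹) * (t * x ^ n * t⁻¹) := by group
    _ = o * x * (x ^ n)⁻¹ := by rw [hv, hx]; group
    _ = o * x ^ n := by
      nth_rw 1 [← hn]
      group

/-- Two elements with image in a cyclic group which centralise the kernel commute. -/
theorem commute_of_cyclic_map {K H : Type*} [Group K] [Group H] (f : K →* H) {r : H} {x y : K}
    (hx : f x ∈ zpowers r) (hy : f y ∈ zpowers r) (kx : ∀ e ∈ f.ker, Commute x e)
    (ky : ∀ e ∈ f.ker, Commute y e) : Commute x y := by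
  set C := Subgroup.closure ({x, y} : Set K)
  have hle : (f.comp C.subtype).range ≤ zpowers r := by
    rintro _ ⟨c, rfl⟩
    exact (closure_le (K := (zpowers r).comap f)).2
      (Set.insert_subset hx (Set.singleton_subset_iff.2 hy)) c.2
  haveI : IsCyclic (f.comp C.subtype).range :=
    isCyclic_of_injective (inclusion hle) (inclusion_injective hle)
  have hk : (f.comp C.subtype).rangeRestrict.ker ≤ center C := by
    rw [MonoidHom.ker_rangeRestrict]
    intro e he
    refine mem_center_iff.2 fun c => Subtype.ext ?_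
    have hc : (c : K) ∈ centralizer ({(e : K)} : Set K) :=
      (closure_le (K := centralizer ({(e : K)} : Set K))).2
        (Set.insert_subset (mem_centralizer_singleton_iff.2 (kx _ he).eq)
          (Set.singleton_subset_iff.2 (mem_centralizer_singleton_iff.2 (ky _ he).eq))) c.2
    exact mem_centralizer_singleton_iff.1 hc
  exact congrArg Subtype.val
    (((f.comp C.subtype).rangeRestrict.isMulCommutative_of_isCyclic_of_ker_le_center hk).is_comm.comm
      (⟨x, subset_closure (Set.mem_insert _ _)⟩ : C)
      ⟨y, subset_closure (Set.mem_insert_of_mem _ rfl)⟩)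

end CfsgLib.GW.Alpha
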