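import Cfsg.Agent.Lib.GW.NoLayer
import Cfsg.Agent.Lib.GW.Component.Local
import Cfsg.Agent.Lib.GW.Component.Alpha.Tools

/-!
The odd core of the normalizer of a subgroup of `F(O(C(a)))` lies in `C(a)`.
-/

set_option autoImplicit false
set_option linter.unusedSectionVars false
set_option linter.style.haveILetI false

namespace CfsgLib.GW.Alpha

open Subgroup CfsgLib.Invol CfsgLib.Comp

universe u

variable {G : Type u} [Group G] [Finite G]

/-- An `a`-inverted `q`-group normalised by `N`, `q` not occurring in `fitC a`, has no fixed point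
for `c` if the elements of `fitC c` centralised by `a` lie in `N`. -/
theorem eq_one_of_cent (M : Min G) {a c : G} (ha : orderOf a = 2) (hc : orderOf c = 2)
    (hac : a * c = c * a) (hcard : Nat.card (fitC c) = Nat.card (fitC a)) {N : Subgroup G}
    (hN : fitC c ⊓ cI a ≤ N) {q : ℕ} [Fact q.Prime] (hq : ¬ q ∣ Nat.card (fitC a)) (hq2 : q ≠ 2)
    {E : Subgroup G} (hE : IsPGroup q E) (hEn : N ≤ normalizer (E : Set G))
    (hinv : ∀ e ∈ E, a * e * a⁻¹ = e⁻¹) {e : G} (he : e ∈ E) (hec : e ∈ cI c) : e = 1 := by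
  have hdisj : E ⊓ fitC c = ⊥ := by
    refine Subgroup.inf_eq_bot_of_coprime ?_
    obtain ⟨k, hk⟩ := IsPGroup.iff_card.1 hE
    rw [hk, hcard]
    exact ((Fact.out : q.Prime).coprime_iff_not_dvd.2 hq).pow_left k
  have hodd : Odd (orderOf e) := by
    obtain ⟨k, hk⟩ := IsPGroup.iff_card.1 hE
    exact Odd.of_dvd_nat ((Fact.out : q.Prime).odd_of_ne_two hq2).pow
      (hk ▸ Subgroup.orderOf_dvd_natCard E he)
  have heR : e ∈ coreC c := M.mem_coreC hc hec hodd
  have haR : a ∈ normalizer (coreC c : Set G) := cI_le_normalizer_coreC c (mem_cI.2 hac)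
  have h1 := mem_fitting_of_conj_inv (odd_coreC c) (invol_mul_self ha) haR heR (hinv e he) ?_
  · have : e ∈ E ⊓ fitC c := ⟨he, h1⟩
    rwa [hdisj, mem_bot] at this
  · intro x hx hxa
    have hxN : x ∈ N := hN ⟨hx, mem_cI.2 hxa.symm⟩
    have h2 : x * e * x⁻¹ * e⁻¹ ∈ E ⊓ fitC c := by
      refine mem_inf.2 ⟨mul_mem ((mem_normalizer_iff.1 (hEn hxN) e).1 he) (inv_mem he), ?_⟩
      rw [show x * e * x⁻¹ * e⁻¹ = x * (e * x⁻¹ * e⁻¹) by group]
      exact mul_mem hx (conj_mem_fitC hec (inv_mem hx))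
    rw [hdisj, mem_bot, mul_inv_eq_one] at h2
    exact (mul_inv_eq_iff_eq_mul.1 h2).symm

/-- The Fitting subgroup of `N(D)`, `D` in `F(O(C(a)))`, is centralised by `a`. -/
theorem radP_le_cI (M : Min G) {a c : G} (ha : orderOf a = 2) (hmax : IsCoatom (cI a))
    (hc : orderOf c = 2) (hac : a * c = c * a) (hne : c ≠ a)
    (hcard1 : Nat.card (fitC c) = Nat.card (fitC a))
    (hcard2 : Nat.card (fitC (a * c)) = Nat.card (fitC a))
    {D : Subgroup G} (hD : D ≠ ⊥) (hDF : D ≤ fitC a)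
    (haN : a ∈ normalizer (D : Set G)) (hcN : c ∈ normalizer (D : Set G))
    (h1 : fitC c ⊓ cI a ≤ normalizer (D : Set G))
    (h2 : fitC (a * c) ⊓ cI a ≤ normalizer (D : Set G)) (q : Nat.Primes) :
    radP (q : ℕ) (normalizer (D : Set G)) ≤ cI a := by
  haveI := M.simple
  set N := normalizer (D : Set G)
  haveI : Fact (Nat.Prime 2) := ⟨Nat.prime_two⟩
  have h2H : 2 ∣ Nat.card (Cfsg.fittingSubgroup ↥(cI a)) := by
    have := Subgroup.orderOf_dvd_natCard _ (mem_fitting_cI_self a)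
    rwa [ha, card_map_of_injective (subtype_injective _)] at this
  obtain ⟨r, hr, hrd⟩ := Nat.exists_prime_and_dvd (fun e => hD (Subgroup.card_eq_one.1 e) : Nat.card D ≠ 1)
  have hrF : r ∣ Nat.card (fitC a) := hrd.trans (Subgroup.card_dvd_of_le hDF)
  have hr2 : r ≠ 2 := fun e => by
    have := (odd_coreC a).of_dvd_nat (hrF.trans (Subgroup.card_dvd_of_le (fitC_le_coreC a)))
    rw [e] at this
    exact absurd this (by decide)
  have hrH := dvd_fitting_cI hrF
  have hlead : Cfsg.leadsTo (cI a) N :=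
    ⟨D, hD, hDF.trans (fitC_le_fitting_cI a), inf_le_right⟩
  haveI := Fact.mk q.2
  by_cases hd : (q : ℕ) ∣ Nat.card (Cfsg.fittingSubgroup ↥(cI a))
  · by_cases e : (q : ℕ) = 2
    · exact leadsTo_radP_le hmax hlead q.2 hr (by omega) hd hrH
    · exact leadsTo_radP_le hmax hlead q.2 Nat.prime_two (Ne.symm e) hd h2H
  · have hbot := leadsTo_radP_inf hlead q.2 hd
    have hq2 : (q : ℕ) ≠ 2 := fun e => hd (e ▸ h2H)
    set E := radP (q : ℕ) N with hEdef
    have hE : IsPGroup (q : ℕ) E := isPGroup_radP _ N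
    have hEn : N ≤ normalizer (E : Set G) := le_normalizer_radP _ N
    have hEodd : Odd (Nat.card E) := by
      obtain ⟨k, hk⟩ := IsPGroup.iff_card.1 hE
      rw [hk]; exact (q.2.odd_of_ne_two hq2).pow
    have hinv : ∀ e ∈ E, a * e * a⁻¹ = e⁻¹ := fun e he =>
      CfsgLib.Recog.GenDih.inv_of_fpf ha (fun x hx => (mem_normalizer_iff.1 (hEn haN) x).1 hx)
        (fun x hx hxa => mem_bot.1 (hbot ▸ mem_inf.2 ⟨hx, mem_cI.2 hxa.eq⟩)) he
    have hqa : ¬ (q : ℕ) ∣ Nat.card (fitC a) := fun h' => hd (dvd_fitting_cI h')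
    have hac2 : orderOf (a * c) = 2 := by
      refine invol_of_mul_self ?_ fun e => hne ?_
      · calc a * c * (a * c) = a * (c * a) * c := by group
          _ = (a * a) * (c * c) := by rw [← hac]; group
          _ = 1 := by rw [invol_mul_self ha, invol_mul_self hc, one_mul]
      · rw [← invol_inv ha]; exact (inv_eq_of_mul_eq_one_right e).symm
    have habc : a * (a * c) = a * c * a := by rw [mul_assoc a c a, ← hac]
    have hb1 : ∀ e ∈ E, e ∈ cI c → e = 1 := fun e he hec =>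
      eq_one_of_cent M ha hc hac hcard1 h1 hqa hq2 hE hEn hinv he hec
    have hab1 : ∀ e ∈ E, e ∈ cI (a * c) → e = 1 := fun e he hec =>
      eq_one_of_cent M ha hac2 habc hcard2 h2 hqa hq2 hE hEn hinv he hec
    have hbE : ∀ x ∈ E, c * x * c⁻¹ ∈ E := fun x hx => (mem_normalizer_iff.1 (hEn hcN) x).1 hx
    have hcinv : ∀ x ∈ E, c * x * c⁻¹ = x⁻¹ := fun x hx =>
      CfsgLib.Recog.GenDih.inv_of_fpf hc hbE (fun y hy hyc => hb1 y hy (mem_cI.2 hyc.eq)) hx
    intro x hx
    have hfix : x ∈ cI (a * c) := by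
      refine mem_cI.2 (Eq.symm (mul_inv_eq_iff_eq_mul.1 ?_))
      calc a * c * x * (a * c)⁻¹ = a * (c * x * c⁻¹) * a⁻¹ := by group
        _ = x := by rw [hcinv x hx, hinv _ (inv_mem hx), inv_inv]
    rw [hab1 x hx hfix]
    exact one_mem _

/-- **The odd core of `N(D)` is centralised by `a`.** -/
theorem coreK_le_cI (M : Min G) {a c : G} (ha : orderOf a = 2) (hmax : IsCoatom (cI a))
    (hc : orderOf c = 2) (hac : a * c = c * a) (hne : c ≠ a)
    (hcard1 : Nat.card (fitC c) = Nat.card (fitC a))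
    (hcard2 : Nat.card (fitC (a * c)) = Nat.card (fitC a))
    {D : Subgroup G} (hD : D ≠ ⊥) (hDF : D ≤ fitC a)
    (haN : a ∈ normalizer (D : Set G)) (hcN : c ∈ normalizer (D : Set G))
    (h1 : fitC c ⊓ cI a ≤ normalizer (D : Set G))
    (h2 : fitC (a * c) ⊓ cI a ≤ normalizer (D : Set G)) :
    coreK (normalizer (D : Set G)) ≤ cI a := by
  set N := normalizer (D : Set G)
  have hF : (Cfsg.fittingSubgroup N).map N.subtype ≤ cI a := by
    rw [fitting_map_eq]
    exact iSup_le fun q => radP_le_cI M ha hmax hc hac hne hcard1 hcard2 hD hDF haN hcN h1 h2 q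
  haveI hOn : (Cfsg.oddCore ↥N).Normal := CfsgLib.Solvable.pPrimeCore_normal 2 _
  set O := Cfsg.oddCore ↥N with hOdef
  have hodd : Odd (Nat.card O) :=
    Nat.coprime_two_right.1 (CfsgLib.Solvable.pPrimeCore_coprime 2)
  haveI : Group.IsSolvable O := CfsgLib.FT.odd_order_solvable hodd
  set FO := (Cfsg.fittingSubgroup ↥O).map O.subtype
  have hFOn : FO.Normal := by
    haveI : (Cfsg.fittingSubgroup ↥O).Characteristic :=
      CfsgLib.Solvable.fittingSubgroup_characteristic _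
    exact ConjAct.normal_of_characteristic_of_normal
  have hFOle : FO ≤ Cfsg.fittingSubgroup N := by
    refine CfsgLib.Solvable.le_fittingSubgroup hFOn ?_
    haveI : Group.IsNilpotent (Cfsg.fittingSubgroup ↥O) := CfsgLib.Solvable.fittingSubgroup_isNilpotent
    exact Group.nilpotent_of_mulEquiv
      ((Cfsg.fittingSubgroup ↥O).equivMapOfInjective _ O.subtype_injective)
  set a' : N := ⟨a, haN⟩
  have hfix : ∀ f ∈ FO, Commute a' f := fun f hf =>
    Subtype.ext (mem_cI.1 (hF (mem_map_of_mem _ (hFOle hf)))).symm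
  rintro _ ⟨x, hx, rfl⟩
  set d := x⁻¹ * (a' * x * a'⁻¹) with hd
  have hdO : d ∈ O := mul_mem (inv_mem hx) (hOn.conj_mem x hx a')
  have hcent : ∀ f ∈ FO, Commute d f := by
    intro f hf
    have e2 : a' * (x * f * x⁻¹) * a'⁻¹ = x * f * x⁻¹ := by
      rw [(hfix _ (hFOn.conj_mem f hf x)).eq, mul_inv_cancel_right]
    have e3 : a' * f * a'⁻¹ = f := by rw [(hfix f hf).eq, mul_inv_cancel_right]
    refine mul_inv_eq_iff_eq_mul.1 ?_
    calc d * f * d⁻¹ = x⁻¹ * ((a' * x * a'⁻¹) * f * (a' * x * a'⁻¹)⁻¹) * x := by rw [hd]; group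
      _ = x⁻¹ * ((a' * x * a'⁻¹) * (a' * f * a'⁻¹) * (a' * x * a'⁻¹)⁻¹) * x := by rw [e3]
      _ = x⁻¹ * (a' * (x * f * x⁻¹) * a'⁻¹) * x := by group
      _ = f := by rw [e2]; group
  have hdF : d ∈ FO := by
    refine ⟨⟨d, hdO⟩, CfsgLib.Solvable.centralizer_fittingSubgroup_le (mem_centralizer_iff.2
      fun f hf => Subtype.ext (hcent _ ⟨f, hf, rfl⟩).eq.symm), rfl⟩
  have haa : a' * a' = 1 := Subtype.ext (invol_mul_self ha)
  have hdi : a' * d * a'⁻¹ = d⁻¹ := by
    rw [hd, show a' * (x⁻¹ * (a' * x * a'⁻¹)) * a'⁻¹ =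
      (a' * x * a'⁻¹)⁻¹ * (a' * (a' * x * a'⁻¹) * a'⁻¹) by group, conj_invol_twice haa]
    group
  have hd1 : d = 1 :=
    eq_one_of_fixed_inverted (hodd.of_dvd_nat (Subgroup.orderOf_dvd_natCard _ hdO)) (hfix d hdF) hdi
  rw [hd, inv_mul_eq_one] at hd1
  refine mem_cI.2 ?_
  have : a' * x = x * a' := mul_inv_eq_iff_eq_mul.1 hd1.symm
  exact (congrArg Subtype.val this).symm

end CfsgLib.GW.Alpha
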