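import Cfsg.Agent.Lib.GW.Shape
import Cfsg.Agent.Lib.GW.Component.Alpha.Tools
import Cfsg.Agent.Lib.GW.Component.Alpha.PGLFacts
import Cfsg.Agent.Lib.Recog.GenDihedral.SubData
import Cfsg.Agent.Lib.Recog.GenDihedral.OneClass
import Cfsg.Agent.Lib.GW.Component.Local

/-!
Facts on a proper subgroup `K` of a minimal counterexample used when the central elements of order
`p` meet `C(b)`: fusion of commuting involutions, subgroups of odd order normalised by the class of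
an involution, and the size of the class of a central involution.
-/

set_option autoImplicit false
set_option linter.unusedSectionVars false
set_option linter.style.haveILetI false
set_option maxHeartbeats 1000000

namespace CfsgLib.GW.Alpha

open Subgroup CfsgLib.Invol CfsgLib.BlockA.DihedralBlock
open scoped MatrixGroups

universe u

variable {G : Type u} [Group G] [Finite G]

theorem mem_coreK {K : Subgroup G} {x : K} :
    (x : G) ∈ coreK K ↔ QuotientGroup.mk' (Cfsg.oddCore ↥K) x = 1 := by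
  refine ⟨?_, fun h => ⟨x, (QuotientGroup.eq_one_iff x).1 h, rfl⟩⟩
  rintro ⟨y, hy, hyx⟩
  exact (QuotientGroup.eq_one_iff x).2 (Subtype.ext hyx ▸ hy)

theorem coreK_le (K : Subgroup G) : coreK K ≤ K := map_subtype_le _

theorem odd_coreK (K : Subgroup G) : Odd (Nat.card (coreK K)) := by
  rw [card_map_of_injective (subtype_injective _)]
  exact Nat.coprime_two_right.1 (CfsgLib.Solvable.pPrimeCore_coprime 2)

theorem conj_mem_coreK {K : Subgroup G} {k x : G} (hk : k ∈ K) (hx : x ∈ coreK K) :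
    k * x * k⁻¹ ∈ coreK K := by
  obtain ⟨y, hy, rfl⟩ := hx
  exact ⟨⟨k, hk⟩ * y * ⟨k, hk⟩⁻¹,
    (CfsgLib.Solvable.pPrimeCore_normal 2 ↥K).conj_mem y hy ⟨k, hk⟩, rfl⟩

/-- The class of an involution centralises a core centralised by it. -/
theorem conj_commute_coreK {K : Subgroup G} {a k x : G} (hle : coreK K ≤ cI a) (hk : k ∈ K)
    (hx : x ∈ coreK K) : Commute (k * a * k⁻¹) x := by
  have h1 : Commute a (k⁻¹ * x * k) := by
    refine (mem_cI.1 (hle ?_)).symm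
    simpa using conj_mem_coreK (inv_mem hk) hx
  have h2 := h1.map (MulAut.conj k).toMonoidHom
  simpa [MulAut.conj_apply, mul_assoc] using h2

/-- An involution in the coset of an involution modulo a subgroup of odd order is conjugate to it
by that subgroup. -/
theorem exists_conj_coset {O : Subgroup G} (hO : Odd (Nat.card O)) {j o : G} (hj : j * j = 1)
    (ho : o ∈ O) (hjo : j * o * (j * o) = 1) : ∃ d ∈ O, d * j * d⁻¹ = j * o := by
  obtain ⟨n, hn⟩ := exists_sq_root (odd_of_mem hO ho)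
  have hji : j⁻¹ = j := inv_eq_of_mul_eq_one_right hj
  have h1 : j * o * j⁻¹ = o⁻¹ := by
    rw [hji]
    exact eq_inv_of_mul_eq_one_left (by simpa only [mul_assoc] using hjo)
  have h2 : j * (o ^ n) * j⁻¹ = (o ^ n)⁻¹ := by rw [← conj_pow, h1, inv_pow]
  refine ⟨(o ^ n)⁻¹, inv_mem (pow_mem ho n), ?_⟩
  calc (o ^ n)⁻¹ * j * ((o ^ n)⁻¹)⁻¹ = (j * o ^ n * j⁻¹) * j * o ^ n := by rw [h2, inv_inv]
    _ = j * (o ^ n * o ^ n) := by group
    _ = j * o := by rw [hn]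

theorem not_solvable_of_commute (M : Min G) {K : Subgroup G} {v x : G} (hv : orderOf v = 2)
    (hvK : v ∈ K) (hxK : x ∈ K) (hxo : Odd (orderOf x)) (hc : Commute x v) (h0 : x ∉ coreK K) :
    ¬ Group.IsSolvable K := fun hs =>
  h0 ⟨⟨x, hxK⟩, OnePrime.mem_oddCore_of_commute M hs (v := ⟨v, hvK⟩) (y := ⟨x, hxK⟩) hv hxo hc, rfl⟩

theorem odd_of_pow {p : ℕ} (hp : p.Prime) (hp2 : p ≠ 2) {x : G} (hx : ∃ k, x ^ p ^ k = 1) :
    Odd (orderOf x) := by
  obtain ⟨k, hk⟩ := hx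
  exact (hp.odd_of_ne_two hp2).pow.of_dvd_nat (orderOf_dvd_of_pow_eq_one hk)

section Linear

variable {F : Type} [Field F] [Fintype F]

theorem odd_mem_imL (hodd : Odd (Fintype.card F)) {x : PGL(2, F)} (ho : Odd (orderOf x)) :
    x ∈ CfsgLib.Geom.Moebius.imL F := by
  have := CfsgLib.Geom.Moebius.finite_pgl_two (F := F)
  obtain ⟨n, hn⟩ := exists_sq_root ho
  rw [← hn]
  exact mul_self_mem_of_index_two (CfsgLib.Geom.Moebius.imL_index hodd) _

end Linear

theorem commute_map {K : Subgroup G} {x y : K} (h : Commute (x : G) y) :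
    Commute (QuotientGroup.mk' (Cfsg.oddCore ↥K) x) (QuotientGroup.mk' (Cfsg.oddCore ↥K) y) :=
  (show Commute x y from Subtype.ext h.eq).map _

/-- A nonsolvable quotient `K/O(K)` has a simple normal subgroup with trivial centralizer. -/
theorem exists_socle (M : Min G) {K : Subgroup G} (hK : K ≠ ⊤) (hns : ¬ Group.IsSolvable K) :
    ∃ L : Subgroup (↥K ⧸ Cfsg.oddCore ↥K), L.Normal ∧ IsSimpleGroup L ∧ Even (Nat.card L) ∧
      centralizer (L : Set (↥K ⧸ Cfsg.oddCore ↥K)) = ⊥ := by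
  rcases M.shape_cases hK hns with ⟨⟨e⟩⟩ | ⟨T, E, L, hLn, F, iF, iFt, hodd, hq, hC, ⟨e⟩⟩
  · haveI : IsSimpleGroup (alternatingGroup (Fin 7)) := alternatingGroup.isSimpleGroup (by simp)
    haveI : IsSimpleGroup (↥K ⧸ Cfsg.oddCore ↥K) := e.isSimpleGroup
    refine ⟨⊤, inferInstance, Subgroup.topEquiv.isSimpleGroup, ?_, ?_⟩
    · rw [card_top, Nat.card_congr e.toEquiv, CfsgLib.Recog.GW.card_alt_seven]; decide
    · rw [coe_top, centralizer_univ]
      refine (IsSimpleGroup.eq_bot_or_eq_top_of_normal _ inferInstance).resolve_right fun h => hns ?_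
      have hm : IsMulCommutative (↥K ⧸ Cfsg.oddCore ↥K) := center_eq_top_iff.1 h
      haveI : Group.IsSolvable (Cfsg.oddCore ↥K) := CfsgLib.FT.odd_order_solvable
        (Nat.coprime_two_right.1 (CfsgLib.Solvable.pPrimeCore_coprime 2))
      haveI := hm
      haveI : Group.IsSolvable (↥K ⧸ Cfsg.oddCore ↥K) := Group.isSolvable_of_comm fun a b =>
        hm.is_comm.comm a b
      exact Group.isSolvable_of_ker_le_range (Cfsg.oddCore ↥K).subtype
        (QuotientGroup.mk' (Cfsg.oddCore ↥K)) (by rw [QuotientGroup.ker_mk', range_subtype])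
  · haveI := CfsgLib.ClassK.isSimpleGroup_psl_two (F := F) hq
    refine ⟨L, hLn, e.isSimpleGroup, ?_, hC⟩
    have h := CfsgLib.Geom.Moebius.card_imL_two (F := F)
    rw [CfsgLib.Geom.Moebius.gcd_two_of_odd hodd,
      ← Nat.card_congr (MonoidHom.ofInjective Matrix.ProjectiveSpecialLinearGroup.toPGL_injective).toEquiv,
      ← Nat.card_congr e.toEquiv] at h
    obtain ⟨m, hm⟩ := hodd
    have e1 : Fintype.card F - 1 = 2 * m := by omega
    rw [hm, show 2 * m + 1 - 1 = 2 * m by omega, show 2 * m + 1 + 1 = 2 * (m + 1) by ring] at h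
    exact ⟨(m + 1) * ((2 * m + 1) * m), by nlinarith⟩

/-- A subgroup of odd order normalised by the class of an involution lies in the core. -/
theorem le_coreK_of_odd (M : Min G) {K : Subgroup G} (hK : K ≠ ⊤) (hns : ¬ Group.IsSolvable K)
    {a : G} (ha : orderOf a = 2) (haK : a ∈ K) {E : Subgroup G} (hEK : E ≤ K)
    (hodd : Odd (Nat.card E)) (hn : ∀ k ∈ K, k * a * k⁻¹ ∈ normalizer (E : Set G)) :
    E ≤ coreK K := by
  obtain ⟨L, hLn, hLs, hLe, hC⟩ := exists_socle M hK hns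
  haveI := hLn
  haveI := hLs
  set π := QuotientGroup.mk' (Cfsg.oddCore ↥K) with hπ
  set E' := (E.subgroupOf K).map π with hE'
  have hoddE : Odd (Nat.card E') := hodd.of_dvd_nat
    ((card_map_dvd (H := E.subgroupOf K) π).trans (dvd_of_eq (Nat.card_congr (subgroupOfEquivOfLe hEK).toEquiv)))
  set A := π ⟨a, haK⟩
  have hA : orderOf A = 2 := orderOf_mk'_invol (by rw [orderOf_mk, ha])
  set N1 := normalClosure ({A} : Set (↥K ⧸ Cfsg.oddCore ↥K))
  have hN1 : N1 ≤ normalizer (E' : Set (↥K ⧸ Cfsg.oddCore ↥K)) := by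
    refine (closure_le _).2 fun x hx => ?_
    obtain ⟨a', ha', hconj⟩ := Group.mem_conjugatesOfSet_iff.1 hx
    rw [Set.mem_singleton_iff.1 ha'] at hconj
    obtain ⟨q, rfl⟩ := isConj_iff.1 hconj
    obtain ⟨k, rfl⟩ := QuotientGroup.mk'_surjective (Cfsg.oddCore ↥K) q
    refine SetLike.mem_coe.2 (mem_normalizer_iff_of_finite ?_)
    rintro _ ⟨e, he, rfl⟩
    refine ⟨k * ⟨a, haK⟩ * k⁻¹ * e * (k * ⟨a, haK⟩ * k⁻¹)⁻¹, ?_, by simp [A, hπ]⟩
    exact (mem_normalizer_iff.1 (hn k k.2) (e : G)).1 he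
  have hLN : L ≤ N1 := by
    rcases IsSimpleGroup.eq_bot_or_eq_top_of_normal (N1.subgroupOf L) inferInstance with h | h
    · exfalso
      have hd : Disjoint N1 L := subgroupOf_eq_bot.1 h
      have hAC : A ∈ centralizer (L : Set (↥K ⧸ Cfsg.oddCore ↥K)) := mem_centralizer_iff.2 fun l hl =>
        ((commute_of_normal_of_disjoint N1 L inferInstance hLn hd A l
          (subset_normalClosure rfl) hl).eq).symm
      rw [hC, mem_bot] at hAC
      rw [hAC, orderOf_one] at hA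
      omega
    · exact subgroupOf_eq_top.1 h
  have hLE : ∀ l ∈ L, ∀ e ∈ E', l * e * l⁻¹ ∈ E' := fun l hl e he =>
    (mem_normalizer_iff.1 (hN1 (hLN hl)) e).1 he
  have hdis : E' ⊓ L = ⊥ := by
    have hn' : (E'.subgroupOf L).Normal := ⟨fun e he l =>
      mem_subgroupOf.2 (hLE l l.2 e (mem_subgroupOf.1 he))⟩
    rcases IsSimpleGroup.eq_bot_or_eq_top_of_normal _ hn' with h | h
    · exact (subgroupOf_eq_bot.1 h).eq_bot
    · exact absurd hLe (Nat.not_even_iff_odd.2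
        (hoddE.of_dvd_nat (card_dvd_of_le (subgroupOf_eq_top.1 h))))
  intro x hx
  refine mem_coreK (x := ⟨x, hEK hx⟩) |>.2 ?_
  have hc : π ⟨x, hEK hx⟩ ∈ centralizer (L : Set (↥K ⧸ Cfsg.oddCore ↥K)) := by
    refine mem_centralizer_iff.2 fun l hl => ?_
    set e := π ⟨x, hEK hx⟩
    have heE : e ∈ E' := ⟨⟨x, hEK hx⟩, mem_subgroupOf.2 hx, rfl⟩
    have h : l * e * l⁻¹ * e⁻¹ ∈ E' ⊓ L := by
      refine mem_inf.2 ⟨mul_mem (hLE l hl e heE) (inv_mem heE), ?_⟩
      rw [show l * e * l⁻¹ * e⁻¹ = l * (e * l⁻¹ * e⁻¹) by group]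
      exact mul_mem hl (hLn.conj_mem _ (inv_mem hl) e)
    rw [hdis, mem_bot, mul_inv_eq_one] at h
    exact mul_inv_eq_iff_eq_mul.1 h
  rwa [hC, mem_bot] at hc

/-- Two commuting involutions of `K` with elements of `p`-power order outside the core in their
centralisers, each inverted by the other, are conjugate in `K`. -/
theorem conj_of_inverted (M : Min G) {K : Subgroup G} (hK : K ≠ ⊤) {a j u y : G}
    (ha : orderOf a = 2) (hj : orderOf j = 2) (haK : a ∈ K) (hjK : j ∈ K) {p : ℕ} (hp : p.Prime)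
    (hp2 : p ≠ 2) (huK : u ∈ K) (hu : ∃ k, u ^ p ^ k = 1) (huj : Commute u j)
    (hua : a * u * a⁻¹ = u⁻¹) (hu0 : u ∉ coreK K) (hyK : y ∈ K) (hy : ∃ k, y ^ p ^ k = 1)
    (hya : Commute y a) (hyj : j * y * j⁻¹ = y⁻¹) (hy0 : y ∉ coreK K) :
    ∃ k ∈ K, k * a * k⁻¹ = j := by
  classical
  have hns := not_solvable_of_commute M hj hjK huK (odd_of_pow hp hp2 hu) huj hu0
  set π := QuotientGroup.mk' (Cfsg.oddCore ↥K) with hπ
  set A := π ⟨a, haK⟩ with hAdef
  set J := π ⟨j, hjK⟩ with hJdef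
  have hA : orderOf A = 2 := orderOf_mk'_invol (by rw [orderOf_mk, ha])
  have hJ : orderOf J = 2 := orderOf_mk'_invol (by rw [orderOf_mk, hj])
  suffices hq : ∃ g, g * A * g⁻¹ = J by
    obtain ⟨g, hg⟩ := hq
    obtain ⟨k, rfl⟩ := QuotientGroup.mk'_surjective (Cfsg.oddCore ↥K) g
    set x := (k : G) * a * (k : G)⁻¹
    have ho : j⁻¹ * x ∈ coreK K := by
      refine mem_coreK (x := ⟨j, hjK⟩⁻¹ * (k * ⟨a, haK⟩ * k⁻¹)) |>.2 ?_
      rw [map_mul, map_mul, map_mul, map_inv, map_inv, hg, inv_mul_cancel]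
    have hx2 : x * x = 1 := invol_mul_self (by rw [orderOf_conj_eq, ha])
    obtain ⟨d, hd, hdj⟩ := exists_conj_coset (odd_coreK K) (invol_mul_self hj) ho
      (by rw [mul_inv_cancel_left]; exact hx2)
    rw [mul_inv_cancel_left] at hdj
    refine ⟨d⁻¹ * k, mul_mem (inv_mem (coreK_le K hd)) k.2, ?_⟩
    calc d⁻¹ * k * a * (d⁻¹ * k)⁻¹ = d⁻¹ * x * d := by simp only [x]; group
      _ = j := by rw [← hdj]; group
  rcases M.shape_cases hK hns with ⟨⟨e⟩⟩ | ⟨T, E, L, hLn, F, iF, iFt, hodd, hq, hC, ⟨e⟩⟩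
  · obtain ⟨g, hg⟩ := isConj_iff.1 (CfsgLib.StructB.CoA9.seven_invol_conj (a := e A) (b := e J)
      (by rw [MulEquiv.orderOf_eq, hA]) (by rw [MulEquiv.orderOf_eq, hJ]))
    refine ⟨e.symm g, e.injective ?_⟩
    rw [map_mul, map_mul, map_inv, MulEquiv.apply_symm_apply, hg]
  obtain ⟨P, χ, hχ, hLP, hLχ, hχL, hinv, hconjinv⟩ := exists_linear hodd T E L e hC
  have hAP := hinv _ hA
  have hJP := hinv _ hJ
  set U := π ⟨u, huK⟩
  set Y := π ⟨y, hyK⟩
  have hpow : ∀ {x : G} (hxK : x ∈ K), (∃ k, x ^ p ^ k = 1) → ∃ k, π ⟨x, hxK⟩ ^ p ^ k = 1 :=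
    fun {x} hxK ⟨k, hk⟩ => ⟨k, by rw [← map_pow, show (⟨x, hxK⟩ : K) ^ p ^ k = 1 from Subtype.ext hk, map_one]⟩
  have hoU : Odd (orderOf U) := odd_map π (by rw [orderOf_mk]; exact odd_of_pow hp hp2 hu)
  have hoY : Odd (orderOf Y) := odd_map π (by rw [orderOf_mk]; exact odd_of_pow hp hp2 hy)
  have hUP : U ∈ P := hconjinv _ A hoU (by
    rw [← map_inv, ← map_mul, ← map_mul, ← map_inv]; exact congrArg π (Subtype.ext hua))
  have hYP : Y ∈ P := hconjinv _ J hoY (by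
    rw [← map_inv, ← map_mul, ← map_mul, ← map_inv]; exact congrArg π (Subtype.ext hyj))
  have hne1 : ∀ {x : G} (hxK : x ∈ K) (hP : π ⟨x, hxK⟩ ∈ P), x ∉ coreK K → χ ⟨_, hP⟩ ≠ 1 :=
    fun {x} hxK hP h0 h => h0 (mem_coreK (x := ⟨x, hxK⟩) |>.2
      (congrArg Subtype.val (hχ (h.trans (map_one χ).symm))))
  have hpowχ : ∀ {x : G} (hxK : x ∈ K) (hP : π ⟨x, hxK⟩ ∈ P), (∃ k, x ^ p ^ k = 1) →
      ∃ k, χ ⟨_, hP⟩ ^ p ^ k = 1 := fun {x} hxK hP h => by
    obtain ⟨k, hk⟩ := hpow hxK h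
    exact ⟨k, by rw [← map_pow, show (⟨_, hP⟩ : P) ^ p ^ k = 1 from Subtype.ext hk, map_one]⟩
  have hord : ∀ {x : ↥K ⧸ Cfsg.oddCore ↥K} (hx : x ∈ P), orderOf x = 2 → orderOf (χ ⟨x, hx⟩) = 2 :=
    fun {x} hx h => by rw [orderOf_injective χ hχ, orderOf_mk, h]
  obtain ⟨g, hg⟩ := PGL.conj_of_torus hodd hp hp2 (hord hAP hA) (hord hJP hJ)
    ((show Commute (⟨Y, hYP⟩ : P) ⟨A, hAP⟩ from Subtype.ext (commute_map hya).eq).map χ)
    ((show Commute (⟨U, hUP⟩ : P) ⟨J, hJP⟩ from Subtype.ext (commute_map huj).eq).map χ)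
    (hne1 hyK hYP hy0) (hne1 huK hUP hu0) (hpowχ hyK hYP hy) (hpowχ huK hUP hu)
  set A' := χ ⟨A, hAP⟩
  set J' := χ ⟨J, hJP⟩
  have fin : ∀ g ∈ CfsgLib.Geom.Moebius.imL F, g * A' * g⁻¹ = J' → ∃ g, g * A * g⁻¹ = J := by
    intro g hg1 hg2
    obtain ⟨q, -, rfl⟩ := hχL g hg1
    refine ⟨q, ?_⟩
    rw [← map_inv, ← map_mul, ← map_mul] at hg2
    exact congrArg Subtype.val (hχ hg2)
  have hidx := CfsgLib.Geom.Moebius.imL_index (F := F) hodd
  by_cases hgL : g ∈ CfsgLib.Geom.Moebius.imL F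
  · exact fin g hgL hg
  by_cases hAL : A' ∈ CfsgLib.Geom.Moebius.imL F
  · haveI := CfsgLib.Geom.Moebius.imL_normal (F := F)
    have hJL : J' ∈ CfsgLib.Geom.Moebius.imL F := hg ▸ Subgroup.Normal.conj_mem inferInstance _ hAL g
    have inL : ∀ {x : ↥K ⧸ Cfsg.oddCore ↥K} (hx : x ∈ P), χ ⟨x, hx⟩ ∈ CfsgLib.Geom.Moebius.imL F →
        x ∈ L := fun {x} hx h => by
      obtain ⟨q, hq, he⟩ := hχL _ h
      exact ((congrArg Subtype.val (hχ he)).trans rfl : (q : ↥K ⧸ Cfsg.oddCore ↥K) = x) ▸ hq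
    obtain ⟨c, hc⟩ := isConj_iff.1 (CfsgLib.Fusion.psl_two_involutions_conj hodd
      (e ⟨A, inL hAP hAL⟩) (e ⟨J, inL hJP hJL⟩)
      (by rw [MulEquiv.orderOf_eq, orderOf_mk, hA]) (by rw [MulEquiv.orderOf_eq, orderOf_mk, hJ]))
    obtain ⟨c', rfl⟩ := e.surjective c
    rw [← map_inv, ← map_mul, ← map_mul] at hc
    exact ⟨c', congrArg Subtype.val (e.injective hc)⟩
  · refine fin (g * A') ((mul_mem_iff_of_index_two hidx).2 ⟨fun h => absurd h hgL,
      fun h => absurd h hAL⟩) ?_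
    rw [← hg]
    group

end CfsgLib.GW.Alpha
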