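import Cfsg.Agent.Lib.GW.Component.Alpha.Radical
import Cfsg.Agent.Lib.GW.Component.Alpha.Shape

/-!
The configuration to refute: the central elements of order `p` of `F(O(C(a)))` meet `C(b)`.  The
normalizer of the intersection and the part of it inverted by `b`.
-/

set_option autoImplicit false
set_option linter.unusedSectionVars false
set_option linter.style.haveILetI false

namespace CfsgLib.GW.Alpha

open Subgroup CfsgLib.Invol CfsgLib.Comp

universe u

variable {G : Type u} [Group G]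

/-- The fixed part of the central elements of order `p`. -/
abbrev qP (a b : G) (p : ℕ) : Subgroup G := zP a p ⊓ cI b

/-- Its normalizer. -/
abbrev nQ (a b : G) (p : ℕ) : Subgroup G := normalizer (qP a b p : Set G)

/-- An element of odd order inverted by `b` commutes with `e` if `b` fixes `e` and its conjugate. -/
theorem commute_of_fixed {b x e : G} (ho : Odd (orderOf x)) (hx : b * x * b⁻¹ = x⁻¹)
    (he : Commute b e) (he' : Commute b (x * e * x⁻¹)) : Commute x e := by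
  refine commute_of_conj_eq ho ?_
  calc x * e * x⁻¹ = b * (x * e * x⁻¹) * b⁻¹ := by rw [he'.eq, mul_inv_cancel_right]
    _ = (b * x * b⁻¹) * (b * e * b⁻¹) * (b * x * b⁻¹)⁻¹ := by group
    _ = x⁻¹ * e * x := by rw [hx, he.eq, mul_inv_cancel_right, inv_inv]

theorem inv_conj {b x : G} (hx : b * x * b⁻¹ = x⁻¹) : b * x⁻¹ * b⁻¹ = x := by
  rw [show b * x⁻¹ * b⁻¹ = (b * x * b⁻¹)⁻¹ by group, hx, inv_inv]

variable [Finite G]

/-- Elements of `C(a)` of odd order inverted by a second involution of `N` commute, if that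
involution centralises the core of `N`. -/
theorem commute_inverted (M : Min G) {N : Subgroup G} (hN : N ≠ ⊤) {a b x y : G}
    (ha : orderOf a = 2) (hb : orderOf b = 2) (haN : a ∈ N) (hbN : b ∈ N)
    (hab : b * a = a * b) (hne : b ≠ a) (hcore : coreK N ≤ cI b) (hx : x ∈ N ⊓ coreC a)
    (hy : y ∈ N ⊓ coreC a) (hxi : b * x * b⁻¹ = x⁻¹) (hyi : b * y * b⁻¹ = y⁻¹) :
    Commute x y := by
  obtain ⟨R, r, hrR, hRle, hcyc, hR⟩ := M.torus hN ha haN
  set π := QuotientGroup.mk' (Cfsg.oddCore ↥N)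
  have hrN : r ∈ N := (hRle hrR).1
  have hmem : ∀ {x : G} (hx : x ∈ N ⊓ coreC a), b * x * b⁻¹ = x⁻¹ →
      π ⟨x, hx.1⟩ ∈ zpowers (π ⟨r, hrN⟩) ∧ ∀ e ∈ π.ker, Commute (⟨x, hx.1⟩ : N) e := by
    intro x hx hxi
    refine ⟨?_, fun e he => Subtype.ext ?_⟩
    · obtain ⟨i, hi⟩ := hcyc x ((hR b hbN hb hab hne).1 x hx hxi)
      have h1 : π ((⟨r, hrN⟩ ^ i)⁻¹ * ⟨x, hx.1⟩) = 1 := mem_coreK.1 hi
      rw [map_mul, map_inv, map_pow, inv_mul_eq_one] at h1
      exact h1 ▸ pow_mem (mem_zpowers _) i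
    · have he1 : (e : G) ∈ coreK N := mem_coreK.2 he
      exact (commute_of_fixed (odd_orderOf_mem_coreC hx.2) hxi (mem_cI.1 (hcore he1)).symm
        (mem_cI.1 (hcore (conj_mem_coreK hx.1 he1))).symm).eq
  obtain ⟨hx1, hx2⟩ := hmem hx hxi
  obtain ⟨hy1, hy2⟩ := hmem hy hyi
  exact congrArg Subtype.val (commute_of_cyclic_map π hx1 hy1 hx2 hy2).eq

/-- The configuration to refute. -/
structure Ov (a b g : G) (p : ℕ) : Prop where
  min : Min G
  max : ∀ x : G, orderOf x = 2 → IsCoatom (cI x)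
  mixed : Mixed a b g p
  ne : qP a b p ≠ ⊥

variable {a b g : G} {p : ℕ}

theorem qP_le_zP : qP a b p ≤ zP a p := inf_le_left

theorem qP_le_coreC : qP a b p ≤ coreC a := inf_le_left.trans (zP_le_coreC a p)

theorem zP_le_fitC [Fact p.Prime] : zP a p ≤ fitC a := (zP_le_fitP a p).trans (fitP_le_fitC a p)

theorem zP_commute {z z' : G} (hz : z ∈ zP a p) (hz' : z' ∈ zP a p) : Commute z z' :=
  hz.2.1 z' (zP_le_fitP a p hz')

/-- `F(O(C(a)))` centralises the central elements of order `p`. -/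
theorem fitC_commute_zP [Fact p.Prime] {x z : G} (hx : x ∈ fitC a) (hz : z ∈ zP a p) :
    Commute x z := by
  have h : fitC a ≤ centralizer ({z} : Set G) := by
    show (Cfsg.fittingSubgroup ↥(coreC a)).map (coreC a).subtype ≤ _
    rw [fitting_map_eq]
    refine iSup_le fun q => ?_
    haveI := Fact.mk q.2
    intro u hu
    refine mem_centralizer_singleton_iff.2 ?_
    by_cases e : (q : ℕ) = p
    · exact (hz.2.1 u (e ▸ hu)).symm.eq
    · exact (mem_centralizer_iff.1 (radP_le_centralizer e (isPGroup_radP (q : ℕ) (coreC a))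
        (isPGroup_radP p (coreC a)) ((fitP_le_cI a q).trans (cI_le_normalizer_fitP a p))
        ((fitP_le_cI a p).trans (cI_le_normalizer_fitP a q)) hu) z (zP_le_fitP a p hz)).symm
  exact mem_centralizer_singleton_iff.1 (h hx)

namespace Ov

variable (h : Ov a b g p)
include h

theorem fact : Fact p.Prime := ⟨h.mixed.hp⟩

theorem ha : orderOf a = 2 := h.mixed.four.ha

theorem hb : orderOf b = 2 := h.mixed.four.hb

theorem comm : a * b = b * a := h.mixed.four.comm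

theorem hne : b ≠ a := Ne.symm h.mixed.four.hab

theorem qP_ne_top : qP a b p ≠ ⊤ := fun e =>
  h.min.cI_ne_top (invol_ne_one h.ha) (top_le_iff.1 (e ▸ qP_le_coreC.trans (coreC_le_cI a)))

theorem nQ_ne_top : nQ a b p ≠ ⊤ := h.min.normalizer_ne_top h.ne h.qP_ne_top

theorem normalizer_zP : normalizer (zP a p : Set G) = cI a := by
  have hle : zP a p ≤ cI a := (zP_le_coreC a p).trans (coreC_le_cI a)
  have hne : zP a p ≠ ⊤ := fun e =>
    h.min.cI_ne_top (invol_ne_one h.ha) (top_le_iff.1 (e ▸ hle))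
  exact ((h.max a h.ha).le_iff.1 (cI_le_normalizer_zP a p)).resolve_left
    (h.min.normalizer_ne_top (zP_ne_bot h.mixed) hne)

theorem cent_zP_le {x : G} (hx : ∀ z ∈ zP a p, Commute x z) : x ∈ cI a := by
  rw [← h.normalizer_zP]
  exact mem_normalizer_iff_of_finite fun z hz => by
    rwa [(hx z hz).eq, mul_inv_cancel_right]

theorem b_mem_cI : b ∈ cI a := mem_cI.2 h.comm.symm

theorem mem_nQ_of_commute {x : G} (hx : ∀ z ∈ qP a b p, Commute x z) : x ∈ nQ a b p :=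
  mem_normalizer_iff_of_finite fun z hz => by
    rwa [(hx z hz).eq, mul_inv_cancel_right]

theorem a_mem : a ∈ nQ a b p :=
  h.mem_nQ_of_commute fun _ hz => (mem_cI.1 (coreC_le_cI a (qP_le_coreC hz))).symm

theorem b_mem : b ∈ nQ a b p := h.mem_nQ_of_commute fun _ hz => (mem_cI.1 hz.2).symm

theorem inf_cI_le : cI a ⊓ cI b ≤ nQ a b p := fun x hx => mem_normalizer_iff_of_finite fun z hz =>
  ⟨conj_mem_zP hx.1 hz.1, (cI b).mul_mem ((cI b).mul_mem hx.2 hz.2) ((cI b).inv_mem hx.2)⟩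

theorem zP_le_nQ : zP a p ≤ nQ a b p := fun _ hz =>
  h.mem_nQ_of_commute fun _ hz' => zP_commute hz hz'.1

theorem fitC_le_nQ : fitC a ≤ nQ a b p := fun x hx => h.mem_nQ_of_commute fun z hz => by
  haveI := h.fact
  exact fitC_commute_zP hx hz.1

theorem card_fit_b : Nat.card (fitC b) = Nat.card (fitC a) := by
  rw [← h.mixed.four.ga, card_fitC_conj]

theorem card_fit_ab : Nat.card (fitC (a * b)) = Nat.card (fitC a) := by
  rw [← h.mixed.four.gb, card_fitC_conj, h.card_fit_b]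

theorem mem_b_of_ab {x : G} (hxa : x ∈ cI a) (hx : x ∈ cI (a * b)) : x ∈ cI b := by
  have h1 : Commute x (a⁻¹ * (a * b)) :=
    (Commute.inv_right (mem_cI.1 hxa : Commute x a)).mul_right (mem_cI.1 hx)
  rw [inv_mul_cancel_left] at h1
  exact mem_cI.2 h1.eq

theorem coreK_le_a : coreK (nQ a b p) ≤ cI a := by
  haveI := h.fact
  exact coreK_le_cI h.min h.ha (h.max a h.ha) h.hb h.comm h.hne h.card_fit_b h.card_fit_ab h.ne
    (qP_le_zP.trans zP_le_fitC) h.a_mem h.b_mem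
    (fun x hx => h.inf_cI_le ⟨hx.2, fitC_le_cI b hx.1⟩)
    (fun x hx => h.inf_cI_le ⟨hx.2, h.mem_b_of_ab hx.2 (fitC_le_cI _ hx.1)⟩)

/-- An element of `O_p(O(C(b)))` centralising the fixed part and inverted by `a`. -/
theorem exists_u : ∃ u ∈ fitP b p, (∀ z ∈ qP a b p, Commute z u) ∧ a * u * a⁻¹ = u⁻¹ ∧ u ≠ 1 ∧
    u * a * u⁻¹ ∉ cI a := by
  haveI := h.fact
  have hQc : qP a b p ≤ cI a := qP_le_coreC.trans (coreC_le_cI a)
  have haN : a ∈ normalizer (fitP b p : Set G) := cI_le_normalizer_fitP b p (mem_cI.2 h.comm)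
  have hcop : (orderOf a).Coprime p := by
    rw [h.ha]; exact (Nat.coprime_primes Nat.prime_two h.mixed.hp).2 h.mixed.ne_two.symm
  obtain ⟨u, huP, huQ, hua⟩ : ∃ u ∈ fitP b p, (∀ z ∈ qP a b p, Commute z u) ∧ ¬ Commute a u := by
    by_contra hcon
    push Not at hcon
    have main : ∀ u ∈ fitP b p, Commute a u := axb_subgroup (isPGroup_fitP b p)
      ((isPGroup_fitP a p).to_le (qP_le_zP.trans (zP_le_fitP a p)))
      (inf_le_right.trans (cI_le_normalizer_fitP b p)) haN hcop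
      (fun x hx => mem_cI.1 (hQc hx)) fun u hu hc => hcon u hu hc
    refine h.mixed.moves fun u hu => ?_
    have hu' : g * u * g⁻¹ ∈ fitP b p := by
      rw [← h.mixed.four.ga, ← fitP_conj]; exact ⟨u, hu, rfl⟩
    have h1 : Commute (g⁻¹ * a * g) u := by
      have := (main _ hu').map (MulAut.conj g⁻¹).toMonoidHom
      simpa [MulAut.conj_apply, mul_assoc] using this
    have hgab : g⁻¹ * a * g = a * b := by
      calc g⁻¹ * a * g = g⁻¹ * (g * (a * b) * g⁻¹) * g := by rw [h.mixed.four.gab]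
        _ = a * b := by group
    rw [hgab] at h1
    exact h.mem_b_of_ab (fitP_le_cI a p hu) (mem_cI.2 h1.eq.symm)
  set O := fitP b p ⊓ centralizer (qP a b p : Set G)
  have hO : Odd (Nat.card O) :=
    (odd_coreC b).of_dvd_nat (card_dvd_of_le (inf_le_left.trans (fitP_le_coreC b p)))
  obtain ⟨w, v, hw, hv, rfl, hwa, hva⟩ := exists_fixed_mul_inv hO (invol_mul_self h.ha)
    (fun x hx => mem_inf.2 ⟨(mem_normalizer_iff.1 haN x).1 hx.1, mem_centralizer_iff.2 fun z hz => by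
      have hza : Commute z a := mem_cI.1 (hQc hz)
      exact ((hza.mul_right (mem_centralizer_iff.1 hx.2 z hz : Commute z x)).mul_right
        hza.inv_right).eq⟩)
    (mem_inf.2 ⟨huP, mem_centralizer_iff.2 fun z hz => (huQ z hz).eq⟩)
  have hvo : Odd (orderOf v) := odd_orderOf_mem_coreC (fitP_le_coreC b p hv.1)
  have hv1 : v ≠ 1 := fun e => hua (by rw [e, mul_one]; exact hwa)
  refine ⟨v, hv.1, fun z hz => mem_centralizer_iff.1 hv.2 z hz, hva, hv1, fun hm => hv1 ?_⟩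
  have h2 : Commute a (v * v) := by
    have e : v * a * v⁻¹ = v * v * a := by
      have := inv_conj hva
      calc v * a * v⁻¹ = v * (a * v⁻¹ * a⁻¹) * a := by group
        _ = v * v * a := by rw [this]
    have hc : Commute (v * v * a) a := e ▸ mem_cI.1 hm
    have := hc.mul_left (Commute.refl a).inv_left
    rw [mul_inv_cancel_right] at this
    exact this.symm
  exact eq_one_of_fixed_inverted hvo (commute_of_mul_self hvo h2.symm).symm hva

theorem not_le : ¬ zP a p ≤ cI b := fun hle => by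
  obtain ⟨u, -, huQ, hinv, hu1, hconj⟩ := h.exists_u
  have hu : u ∈ cI a := h.cent_zP_le fun z hz => (huQ z ⟨hz, hle hz⟩).symm
  exact hconj ((cI a).mul_mem ((cI a).mul_mem hu (self_mem_cI a)) ((cI a).inv_mem hu))

theorem qP_le_coreK : qP a b p ≤ coreK (nQ a b p) := fun z hz => by
  refine ⟨⟨z, le_normalizer hz⟩, CfsgLib.Solvable.le_pPrimeCore
    (normal_in_normalizer (H := qP a b p)) ?_ (mem_subgroupOf.2 hz), rfl⟩
  rw [Nat.card_congr (subgroupOfEquivOfLe le_normalizer).toEquiv]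
  exact Nat.coprime_two_right.2 ((odd_coreC a).of_dvd_nat (card_dvd_of_le qP_le_coreC))

theorem b_conj_zP {z : G} (hz : z ∈ zP a p) : b * z * b⁻¹ ∈ zP a p :=
  conj_mem_zP h.b_mem_cI hz

/-- A central element of order `p` inverted by `b` outside the core. -/
theorem exists_y : ∃ y ∈ zP a p, b * y * b⁻¹ = y⁻¹ ∧ y ∉ coreK (nQ a b p) := by
  by_contra hcon
  push Not at hcon
  have hZ : zP a p ≤ coreK (nQ a b p) := fun z hz => by
    obtain ⟨w, v, hw, hv, rfl, hwb, hvb⟩ := exists_fixed_mul_inv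
      ((odd_coreC a).of_dvd_nat (card_dvd_of_le (zP_le_coreC a p))) (invol_mul_self h.hb)
      (fun x hx => h.b_conj_zP hx) hz
    exact mul_mem (h.qP_le_coreK ⟨hw, mem_cI.2 hwb.eq.symm⟩) (hcon v hv hvb)
  obtain ⟨u, -, huQ, -, -, hconj⟩ := h.exists_u
  exact hconj (h.cent_zP_le fun z hz => conj_commute_coreK h.coreK_le_a
    (h.mem_nQ_of_commute fun z hz => (huQ z hz).symm) (hZ hz))

theorem exists_conj : ∃ k ∈ nQ a b p, k * a * k⁻¹ = b := by
  haveI := h.fact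
  obtain ⟨u, huP, huQ, hinv, hu1, -⟩ := h.exists_u
  obtain ⟨y, hy, hyb, hy0⟩ := h.exists_y
  have huK : u ∈ nQ a b p := h.mem_nQ_of_commute fun z hz => (huQ z hz).symm
  refine conj_of_inverted h.min h.nQ_ne_top h.ha h.hb h.a_mem h.b_mem h.mixed.hp h.mixed.ne_two huK
    ?_ (mem_cI.1 (fitP_le_cI b p huP)) hinv (fun hu => hu1 ?_) (h.zP_le_nQ hy)
    ⟨1, by rw [pow_one]; exact hy.2.2⟩ (mem_cI.1 (coreC_le_cI a (zP_le_coreC a p hy))) hyb hy0
  · obtain ⟨k, hk⟩ := isPGroup_fitP b p ⟨u, huP⟩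
    exact ⟨k, congrArg Subtype.val hk⟩
  · exact eq_one_of_fixed_inverted (odd_orderOf_mem_coreC (fitP_le_coreC b p huP))
      (mem_cI.1 (h.coreK_le_a hu) : Commute u a).symm hinv

theorem coreK_le_b : coreK (nQ a b p) ≤ cI b := fun x hx => by
  obtain ⟨k, hk, he⟩ := h.exists_conj
  exact mem_cI.2 (he ▸ (conj_commute_coreK h.coreK_le_a hk hx).eq.symm)

theorem fitC_b_commute {x z : G} (hx : x ∈ fitC b) (hz : z ∈ qP a b p) : Commute x z := by
  haveI := h.fact
  obtain ⟨k, hk, he⟩ := h.exists_conj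
  rw [← he, ← fitC_conj] at hx
  obtain ⟨y, hy, rfl⟩ := hx
  have hz' : k⁻¹ * z * k ∈ qP a b p := by
    simpa using (mem_normalizer_iff.1 (inv_mem hk) z).1 hz
  have := (fitC_commute_zP hy hz'.1).map (MulAut.conj k).toMonoidHom
  simpa [MulAut.conj_apply, mul_assoc] using this

/-- The configuration for another involution of `C(a)` with the same fixed part. -/
theorem pair {j : G} (hj : orderOf j = 2) (hjc : j ∈ cI a) (hne : j ≠ a)
    (hfix : zP a p ⊓ cI j = qP a b p) : ∃ g', Ov a j g' p := by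
  obtain ⟨g', hg'⟩ := h.min.four_of_invol h.ha hj hjc hne
  refine ⟨g', h.min, h.max, ⟨hg', h.mixed.hp, fun e => h.ne ?_, fun hle => h.not_le ?_⟩,
    fun e => h.ne (hfix.symm.trans e)⟩
  · rw [← hfix]
    exact le_bot_iff.1 ((inf_le_inf_right _ (zP_le_fitP a p)).trans_eq e)
  · intro z hz
    exact (hfix.le ⟨hz, hle (zP_le_fitP a p hz)⟩).2

theorem fix_ab : zP a p ⊓ cI (a * b) = qP a b p := by
  ext z
  constructor
  · intro hz
    exact ⟨hz.1, h.mem_b_of_ab (coreC_le_cI a (zP_le_coreC a p hz.1)) hz.2⟩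
  · intro hz
    exact ⟨hz.1, mem_cI.2 (Commute.mul_right (mem_cI.1 (coreC_le_cI a (qP_le_coreC hz)) :
      Commute z a) (mem_cI.1 hz.2)).eq⟩

theorem fitC_ab_commute {x z : G} (hx : x ∈ fitC (a * b)) (hz : z ∈ qP a b p) : Commute x z := by
  have hab : orderOf (a * b) = 2 := by rw [← h.mixed.four.gb, orderOf_conj_eq]; exact h.hb
  obtain ⟨g', h'⟩ := h.pair hab (mem_cI.2 (by rw [mul_assoc, ← h.comm]))
    (fun e => invol_ne_one h.hb (mul_eq_left.1 e)) h.fix_ab
  exact h'.fitC_b_commute hx (by rw [qP, h.fix_ab]; exact hz)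

/-- The core of the normalizer of an element of the fixed part is centralised by `b`. -/
theorem coreK_zpowers_le {z : G} (hz : z ∈ qP a b p) (hz1 : z ≠ 1) :
    coreK (normalizer (zpowers z : Set G)) ≤ cI b := by
  haveI := h.fact
  have hc : ∀ x : G, Commute x z → x ∈ normalizer (zpowers z : Set G) := fun x hx =>
    mem_normalizer_iff_of_finite fun w hw => by
      obtain ⟨i, rfl⟩ := hw
      rw [(hx.zpow_right i).eq, mul_inv_cancel_right]
      exact zpow_mem (mem_zpowers z) i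
  obtain ⟨k, hk, he⟩ := h.exists_conj
  have hzb : z ∈ fitC b := by
    rw [← he, ← fitC_conj]
    refine ⟨k⁻¹ * z * k, zP_le_fitC (p := p) (qP_le_zP (b := b) ?_), by simp [MulAut.conj_apply, mul_assoc]⟩
    simpa using (mem_normalizer_iff.1 (inv_mem hk) z).1 hz
  refine coreK_le_cI h.min h.hb (h.max b h.hb) h.ha h.comm.symm h.hne.symm h.card_fit_b.symm
    (by rw [← h.comm, h.card_fit_ab, h.card_fit_b]) (fun e => hz1 (zpowers_eq_bot.1 e))
    (zpowers_le.2 hzb) (hc b (mem_cI.1 hz.2).symm)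
    (hc a (mem_cI.1 (coreC_le_cI a (qP_le_coreC hz))).symm)
    (fun x hx => hc x (fitC_commute_zP hx.1 hz.1))
    (fun x hx => hc x (h.fitC_ab_commute (h.comm ▸ hx.1) hz))

/-- The part of `N(Q) ∩ O(C(a))` inverted by `b`. -/
def tK : Subgroup G where
  carrier := {x | x ∈ nQ a b p ⊓ coreC a ∧ b * x * b⁻¹ = x⁻¹}
  one_mem' := ⟨one_mem _, by simp⟩
  mul_mem' := fun {x y} hx hy => ⟨mul_mem hx.1 hy.1, by
    have hc := commute_inverted h.min h.nQ_ne_top h.ha h.hb h.a_mem h.b_mem h.comm.symm h.hne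
      h.coreK_le_b hx.1 hy.1 hx.2 hy.2
    rw [show b * (x * y) * b⁻¹ = (b * x * b⁻¹) * (b * y * b⁻¹) by group, hx.2, hy.2,
      ← mul_inv_rev, hc.eq]⟩
  inv_mem' := fun {x} hx => ⟨inv_mem hx.1, by rw [inv_conj hx.2, inv_inv]⟩

omit h in
theorem mem_tK {h : Ov a b g p} {x : G} :
    x ∈ h.tK ↔ x ∈ nQ a b p ⊓ coreC a ∧ b * x * b⁻¹ = x⁻¹ := Iff.rfl

theorem tK_le : h.tK ≤ nQ a b p ⊓ coreC a := fun _ hx => hx.1

theorem tK_comm {x y : G} (hx : x ∈ h.tK) (hy : y ∈ h.tK) : Commute x y :=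
  commute_inverted h.min h.nQ_ne_top h.ha h.hb h.a_mem h.b_mem h.comm.symm h.hne
    h.coreK_le_b hx.1 hy.1 hx.2 hy.2

theorem tK_commute_coreK {x e : G} (hx : x ∈ h.tK) (he : e ∈ coreK (nQ a b p)) : Commute x e :=
  commute_of_fixed (odd_orderOf_mem_coreC hx.1.2) hx.2 (mem_cI.1 (h.coreK_le_b he)).symm
    (mem_cI.1 (h.coreK_le_b (conj_mem_coreK hx.1.1 he))).symm

theorem tK_commute_qP {x z : G} (hx : x ∈ h.tK) (hz : z ∈ qP a b p) : Commute x z :=
  h.tK_commute_coreK hx (h.qP_le_coreK hz)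

theorem tK_inf_coreK : h.tK ⊓ coreK (nQ a b p) = ⊥ := (eq_bot_iff_forall _).2 fun x hx =>
  eq_one_of_fixed_inverted (odd_orderOf_mem_coreC hx.1.1.2)
    (mem_cI.1 (h.coreK_le_b hx.2)).symm hx.1.2

theorem odd_tK : Odd (Nat.card h.tK) :=
  (odd_coreC a).of_dvd_nat (card_dvd_of_le fun _ hx => hx.1.2)

theorem b_conj_coreC {x : G} (hx : x ∈ coreC a) : b * x * b⁻¹ ∈ coreC a :=
  conj_mem_coreC h.b_mem_cI hx

theorem W_le : coreC a ⊓ cI b ≤ nQ a b p ⊓ coreC a := fun _ hx =>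
  ⟨h.inf_cI_le ⟨coreC_le_cI a hx.1, hx.2⟩, hx.1⟩

theorem exists_split {x : G} (hx : x ∈ nQ a b p ⊓ coreC a) :
    ∃ w ∈ coreC a ⊓ cI b, ∃ v ∈ h.tK, x = w * v := by
  obtain ⟨w, v, hw, hv, rfl, hwb, hvb⟩ := exists_fixed_mul_inv
    ((odd_coreC a).of_dvd_nat (card_dvd_of_le (inf_le_right : nQ a b p ⊓ coreC a ≤ _)))
    (invol_mul_self h.hb) (fun x hx => mem_inf.2
      ⟨mul_mem (mul_mem h.b_mem hx.1) (inv_mem h.b_mem), h.b_conj_coreC hx.2⟩) hx
  exact ⟨w, ⟨hw.2, mem_cI.2 hwb.eq.symm⟩, v, ⟨hv, hvb⟩, rfl⟩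

theorem card_inf : Nat.card (nQ a b p ⊓ coreC a : Subgroup G) =
    Nat.card h.tK * Nat.card (coreC a ⊓ cI b : Subgroup G) := by
  rw [mul_comm, ← Nat.card_prod]
  symm
  refine Nat.card_congr (Equiv.ofBijective
    (fun wv => (⟨(wv.1 : G) * wv.2, mul_mem (h.W_le wv.1.2) wv.2.2.1⟩ :
      (nQ a b p ⊓ coreC a : Subgroup G))) ⟨?_, fun x => ?_⟩)
  · rintro ⟨w, v⟩ ⟨w', v'⟩ he
    have he' : (w : G) * v = w' * v' := congrArg Subtype.val he
    have hd : (w' : G)⁻¹ * w = v' * (v : G)⁻¹ := by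
      rw [eq_mul_inv_iff_mul_eq, mul_assoc, he', inv_mul_cancel_left]
    have hm : (v' : G) * (v : G)⁻¹ ∈ h.tK := mul_mem v'.2 (inv_mem v.2)
    have hf : (v' : G) * (v : G)⁻¹ ∈ cI b := hd ▸ mul_mem (inv_mem w'.2.2) w.2.2
    have h1 : (v' : G) * (v : G)⁻¹ = 1 := eq_one_of_fixed_inverted
      (odd_orderOf_mem_coreC hm.1.2) (mem_cI.1 hf).symm hm.2
    rw [mul_inv_eq_one] at h1
    rw [h1] at he'
    exact Prod.ext (Subtype.ext (mul_right_cancel he')) (Subtype.ext h1.symm)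
  · obtain ⟨w, hw, v, hv, he⟩ := h.exists_split x.2
    exact ⟨⟨⟨w, hw⟩, ⟨v, hv⟩⟩, Subtype.ext he.symm⟩

theorem p_dvd_tK : p ∣ Nat.card h.tK := by
  obtain ⟨y, hy, hyb, hy0⟩ := h.exists_y
  have hy1 : y ≠ 1 := fun e => hy0 (e ▸ one_mem _)
  haveI := h.fact
  exact (dvd_of_eq (orderOf_eq_prime hy.2.2 hy1).symm).trans (Subgroup.orderOf_dvd_natCard _ (⟨⟨h.zP_le_nQ hy, zP_le_coreC a p hy⟩, hyb⟩ : y ∈ h.tK))

theorem zP_split {z : G} (hz : z ∈ zP a p) :
    ∃ q ∈ qP a b p, ∃ v ∈ zP a p ⊓ h.tK, z = q * v := by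
  obtain ⟨w, v, hw, hv, rfl, hwb, hvb⟩ := exists_fixed_mul_inv
    ((odd_coreC a).of_dvd_nat (card_dvd_of_le (zP_le_coreC a p))) (invol_mul_self h.hb)
    (fun x hx => h.b_conj_zP hx) hz
  exact ⟨w, ⟨hw, mem_cI.2 hwb.eq.symm⟩, v, ⟨hv, ⟨h.zP_le_nQ hv, zP_le_coreC a p hv⟩, hvb⟩, rfl⟩

/-- An inverted element commuting with a nontrivial element of the fixed part commutes with the
inverted part of `N(Q)`. -/
theorem commute_tK {r z t : G} (hr : r ∈ coreC a) (hri : b * r * b⁻¹ = r⁻¹) (hz : z ∈ qP a b p)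
    (hz1 : z ≠ 1) (hrz : Commute r z) (ht : t ∈ h.tK) : Commute r t := by
  haveI := h.fact
  have hc : ∀ x : G, Commute x z → x ∈ normalizer (zpowers z : Set G) := fun x hx =>
    mem_normalizer_iff_of_finite fun w hw => by
      obtain ⟨i, rfl⟩ := hw
      rw [(hx.zpow_right i).eq, mul_inv_cancel_right]
      exact zpow_mem (mem_zpowers z) i
  have htop : normalizer (zpowers z : Set G) ≠ ⊤ := h.min.normalizer_ne_top
    (fun e => hz1 (zpowers_eq_bot.1 e)) fun e => h.qP_ne_top (top_le_iff.1 (e ▸ zpowers_le.2 hz))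
  exact commute_inverted h.min htop h.ha h.hb
    (hc a (mem_cI.1 (coreC_le_cI a (qP_le_coreC hz))).symm) (hc b (mem_cI.1 hz.2).symm)
    h.comm.symm h.hne (h.coreK_zpowers_le hz hz1) ⟨hc r hrz, hr⟩
    ⟨hc t (h.tK_commute_qP ht hz), ht.1.2⟩ hri ht.2

end Ov

end CfsgLib.GW.Alpha
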