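import Cfsg.Agent.Lib.GW.Component.Alpha.Count
import Cfsg.Agent.Lib.SylLThreeFour.IndexBound

/-!
A second reflection `s` of `C(a)`: the elements of `O(C(a))` it inverts.
-/

set_option autoImplicit false
set_option linter.unusedSectionVars false
set_option linter.style.haveILetI false

namespace CfsgLib.GW.Alpha

open Subgroup CfsgLib.Invol

universe u

variable {G : Type u} [Group G] [Finite G]

/-- Every involution commuting with `a`, other than `a`, inverts modulo the core the elements of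
`C_K(a)` inverted by some involution of `K`. -/
def InvMod (K : Subgroup G) (a : G) : Prop :=
  ∀ j ∈ K, orderOf j = 2 → Commute j a → j ≠ a → ∀ i ∈ K, orderOf i = 2 →
    ∀ x ∈ K ⊓ coreC a, i * x * i⁻¹ = x⁻¹ → j * x * j⁻¹ * x ∈ coreK K

namespace Ov

variable {a b g : G} {p : ℕ} (h : Ov a b g p)
include h

theorem coreK_le_coreC : coreK (nQ a b p) ≤ coreC a := fun x hx =>
  h.min.mem_coreC h.ha (h.coreK_le_a hx) (odd_of_mem (odd_coreK _) hx)

/-- The corrected element inverted by a further involution. -/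
theorem exists_twist (hI : InvMod (nQ a b p) a) {s : G} (hs : orderOf s = 2)
    (hsK : s ∈ nQ a b p) (hsa : Commute s a) (hne : s ≠ a) {v : G} (hv : v ∈ h.tK) :
    ∃ d ∈ coreK (nQ a b p), (∀ c ∈ coreK (nQ a b p), Commute d c) ∧
      s * (v * d) * s⁻¹ = (v * d)⁻¹ := by
  set e := s * v * s⁻¹ * v with he
  have heC : e ∈ coreK (nQ a b p) := hI s hsK hs hsa hne b h.b_mem h.hb v hv.1 hv.2
  have hve : Commute v e := h.tK_commute_coreK hv heC
  have hsc : ∀ c ∈ coreK (nQ a b p), Commute (s * v * s⁻¹) c := fun c hc => by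
    have h1 := (h.tK_commute_coreK hv (conj_mem_coreK (inv_mem hsK) hc)).map (MulAut.conj s).toMonoidHom
    simpa [MulAut.conj_apply, mul_assoc] using h1
  have hec : ∀ c ∈ coreK (nQ a b p), Commute e c := fun c hc =>
    (hsc c hc).mul_left (h.tK_commute_coreK hv hc)
  obtain ⟨n, hn⟩ := exists_sq_root (odd_of_mem (odd_coreK _) heC)
  set d := (e ^ n)⁻¹ with hd
  have hvsv : Commute v (s * v * s⁻¹) := by
    have h1 := hve.mul_right (Commute.refl v).inv_right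
    rwa [he, mul_inv_cancel_right] at h1
  have hse : s * e * s⁻¹ = e := by
    rw [he, show s * (s * v * s⁻¹ * v) * s⁻¹ = s * (s * v * s⁻¹) * s⁻¹ * (s * v * s⁻¹) by group,
      conj_invol_twice (invol_mul_self hs), hvsv.eq]
  have hsd : s * d * s⁻¹ = d := by
    rw [hd, show s * (e ^ n)⁻¹ * s⁻¹ = (s * e ^ n * s⁻¹)⁻¹ by group, ← conj_pow, hse]
  refine ⟨d, inv_mem (pow_mem heC n), fun c hc => ((hec c hc).pow_left n).inv_left, ?_⟩
  have hvd : Commute v d := (hve.pow_right n).inv_right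
  calc s * (v * d) * s⁻¹ = (s * v * s⁻¹) * (s * d * s⁻¹) := by group
    _ = e * v⁻¹ * d := by rw [hsd, he, mul_inv_cancel_right]
    _ = v⁻¹ * (e * d) := by rw [← hve.inv_left.eq, mul_assoc]
    _ = v⁻¹ * e ^ n := by
      congr 1
      nth_rw 1 [← hn]
      rw [hd, mul_inv_cancel_right]
    _ = (v * d)⁻¹ := by
      rw [hvd.eq, mul_inv_rev, hd, inv_inv]

/-- Two setups with the same fixed part have inverted parts of the same order. -/
theorem card_tK_le {s g' : G} (h' : Ov a s g' p) (hfix : qP a s p = qP a b p)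
    (hI : InvMod (nQ a b p) a) : Nat.card h.tK ≤ Nat.card h'.tK := by
  classical
  have hKeq : nQ a s p = nQ a b p := by rw [nQ, hfix]
  have key : ∀ v : h.tK, ∃ d ∈ coreK (nQ a b p), ((v : G) * d) ∈ h'.tK := by
    intro v
    obtain ⟨d, hd, -, he⟩ := h.exists_twist hI h'.hb (hKeq ▸ h'.b_mem) h'.comm.symm h'.hne v.2
    refine ⟨d, hd, ⟨mem_inf.2 ⟨?_, mul_mem v.2.1.2 (h.coreK_le_coreC hd)⟩, he⟩⟩
    rw [hKeq]
    exact mul_mem v.2.1.1 (coreK_le _ hd)
  choose d hd hm using key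
  refine Nat.card_le_card_of_injective (fun v => (⟨_, hm v⟩ : h'.tK)) fun v v' he => ?_
  have he' : (v : G) * d v = v' * d v' := congrArg Subtype.val he
  have h1 : (v' : G)⁻¹ * v ∈ h.tK ⊓ coreK (nQ a b p) := by
    refine mem_inf.2 ⟨mul_mem (inv_mem v'.2) v.2, ?_⟩
    rw [show (v' : G)⁻¹ * v = (v' : G)⁻¹ * (v * d v) * (d v)⁻¹ by group, he', inv_mul_cancel_left]
    exact mul_mem (hd v') (inv_mem (hd v))
  rw [h.tK_inf_coreK, mem_bot, inv_mul_eq_one] at h1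
  exact Subtype.ext h1.symm

/-- A second reflection centralising the fixed part. -/
theorem card_eq_of_fixed (hI : InvMod (nQ a b p) a) {s : G} (hs : orderOf s = 2)
    (hsc : s ∈ cI a) (hne : s ≠ a) (hsQ : ∀ z ∈ qP a b p, Commute s z) :
    Nat.card (coreC a) =
      kapQ a b p * (Nat.card h.tK * Nat.card (coreC a ⊓ cI s : Subgroup G)) := by
  have hsK : s ∈ nQ a b p := h.mem_nQ_of_commute hsQ
  have hfix : zP a p ⊓ cI s = qP a b p := le_antisymm
    (h.inf_cI_le_of_inverts hsK fun v hv => hI s hsK hs (mem_cI.1 hsc) hne b h.b_mem h.hb v hv.2.1 hv.2.2)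
    fun z hz => ⟨hz.1, mem_cI.2 (hsQ z hz).eq.symm⟩
  obtain ⟨g', h'⟩ := h.pair hs hsc hne hfix
  have hK : nQ a s p = nQ a b p := by rw [nQ, nQ, qP, hfix]
  have e : Nat.card h'.tK = Nat.card h.tK := le_antisymm
    (h'.card_tK_le h hfix.symm (hK.symm ▸ hI)) (h.card_tK_le h' hfix hI)
  have hk : kapQ a s p = kapQ a b p := by rw [kapQ, kapQ, hK]
  rw [← h'.kap_mul, e, hk]

/-- An involution of `N(Q)` moving the fixed part inverts the central elements of order `p`. -/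
theorem inverts_zP (hI : InvMod (nQ a b p) a) {s : G} (hs : orderOf s = 2) (hsK : s ∈ nQ a b p)
    (hsc : s ∈ cI a) (hne : s ≠ a) (hsQ : ¬ ∀ z ∈ qP a b p, Commute s z) :
    ∀ z ∈ zP a p, s * z * s⁻¹ = z⁻¹ := by
  have hss := invol_mul_self hs
  have hQ : ∀ z ∈ qP a b p, s * z * s⁻¹ = z⁻¹ := by
    intro z hz
    have hz' : s * z * s⁻¹ ∈ qP a b p := (mem_normalizer_iff.1 hsK z).1 hz
    set x := z * (s * z * s⁻¹)
    have hxfix : Commute s x := by
      refine mul_inv_eq_iff_eq_mul.1 ?_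
      calc s * (z * (s * z * s⁻¹)) * s⁻¹ = (s * z * s⁻¹) * (s * (s * z * s⁻¹) * s⁻¹) := by group
        _ = (s * z * s⁻¹) * z := by rw [conj_invol_twice hss]
        _ = z * (s * z * s⁻¹) := (zP_commute hz.1 hz'.1).eq.symm
    have hx1 : x = 1 := by
      by_contra hx1
      refine hsQ fun w hw => ?_
      rw [h.qP_eq_zpowers (mul_mem hz hz' : x ∈ qP a b p) hx1] at hw
      obtain ⟨i, rfl⟩ := hw
      exact hxfix.zpow_right i
    exact eq_inv_of_mul_eq_one_right hx1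
  intro z hz
  obtain ⟨q, hq, v, hv, rfl⟩ := h.zP_split hz
  set w := s * v * s⁻¹ * v
  have hsv : s * v * s⁻¹ ∈ zP a p := conj_mem_zP hsc hv.1
  have hwQ : w ∈ qP a b p := by
    obtain ⟨q', hq', v', hv', he⟩ := h.zP_split (mul_mem hsv hv.1 : w ∈ zP a p)
    have h1 : v' ∈ h.tK ⊓ coreK (nQ a b p) := by
      refine mem_inf.2 ⟨hv'.2, ?_⟩
      rw [eq_inv_mul_of_mul_eq he.symm]
      exact mul_mem (inv_mem (h.qP_le_coreK hq'))
        (hI s hsK hs (mem_cI.1 hsc) hne b h.b_mem h.hb v hv.2.1 hv.2.2)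
    rw [h.tK_inf_coreK, mem_bot] at h1
    rw [show w = q' * v' from he, h1, mul_one]; exact hq'
  have hwfix : Commute s w := by
    refine mul_inv_eq_iff_eq_mul.1 ?_
    calc s * (s * v * s⁻¹ * v) * s⁻¹ = (s * (s * v * s⁻¹) * s⁻¹) * (s * v * s⁻¹) := by group
      _ = v * (s * v * s⁻¹) := by rw [conj_invol_twice hss]
      _ = _ := (zP_commute hv.1 hsv).eq
  have hw1 : w = 1 :=
    eq_one_of_fixed_inverted (odd_orderOf_mem_coreC (qP_le_coreC hwQ)) hwfix (hQ w hwQ)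
  rw [show s * (q * v) * s⁻¹ = (s * q * s⁻¹) * (s * v * s⁻¹) by group, hQ q hq,
    eq_inv_of_mul_eq_one_left hw1, ← mul_inv_rev, (zP_commute hv.1 hq.1).eq]

section Moving

variable {s : G} (hI : InvMod (nQ a b p) a) (hs : orderOf s = 2) (hsK : s ∈ nQ a b p)
  (hsc : s ∈ cI a) (hne : s ≠ a) (hsZ : ∀ z ∈ zP a p, s * z * s⁻¹ = z⁻¹)

include hs hsc hsZ in
/-- The elements of `O(C(a))` inverted by `s` normalise the fixed part. -/
theorem inverted_mem {x : G} (hx : x ∈ coreC a) (hxi : s * x * s⁻¹ = x⁻¹) : x ∈ nQ a b p := by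
  have hxx : x * x ∈ nQ a b p := by
    obtain ⟨z, hz, hz1⟩ := (bot_or_exists_ne_one (qP a b p)).resolve_left h.ne
    refine h.mem_of_conj_mem hz hz1 ?_
    have h1 : s * (x * z * x⁻¹) * s⁻¹ = x⁻¹ * z⁻¹ * x := by
      calc s * (x * z * x⁻¹) * s⁻¹ = (s * x * s⁻¹) * (s * z * s⁻¹) * (s * x * s⁻¹)⁻¹ := by group
        _ = x⁻¹ * z⁻¹ * x := by rw [hxi, hsZ z hz.1, inv_inv]
    have h2 : s * (x * z * x⁻¹) * s⁻¹ = x * z⁻¹ * x⁻¹ := by
      rw [hsZ _ (conj_mem_zP (coreC_le_cI a hx) hz.1)]; group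
    have h3 : x * x * z * (x * x)⁻¹ = z := by
      calc x * x * z * (x * x)⁻¹ = (x * (x * z⁻¹ * x⁻¹) * x⁻¹)⁻¹ := by
            simp only [mul_inv_rev, inv_inv, mul_assoc]
        _ = (x * (x⁻¹ * z⁻¹ * x) * x⁻¹)⁻¹ := by rw [h2.symm.trans h1]
        _ = z := by group
    rw [h3]; exact hz
  obtain ⟨n, hn⟩ := exists_sq_root (odd_orderOf_mem_coreC hx)
  rw [← hn, ← (Commute.refl x).mul_pow]
  exact pow_mem hxx n

include hI hs hsK hsc hne hsZ in
/-- An `s`-inverted element is the product of an inverted element and an element of the core. -/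
theorem inverted_split {x : G} (hx : x ∈ coreC a) (hxi : s * x * s⁻¹ = x⁻¹) :
    ∃ c ∈ coreK (nQ a b p), ∃ v ∈ h.tK, x = v * c := by
  have hxK := h.inverted_mem hs hsc hsZ hx hxi
  obtain ⟨w, hw, v, hv, rfl⟩ := h.exists_split (mem_inf.2 ⟨hxK, hx⟩)
  set c := b * (w * v) * b⁻¹ * (w * v)
  have hc : c ∈ coreK (nQ a b p) :=
    hI b h.b_mem h.hb h.comm.symm h.hne s hsK hs _ ⟨hxK, hx⟩ hxi
  have hwb : Commute b w := (mem_cI.1 hw.2).symm
  set t := w⁻¹ * v⁻¹ * w * v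
  have ht : t ∈ h.tK := by
    have := h.W_conj_tK (inv_mem hw) (inv_mem hv)
    rw [inv_inv] at this
    exact mul_mem this hv
  have hct : c = w * w * t := by
    calc c = (b * w * b⁻¹) * (b * v * b⁻¹) * (w * v) := by simp only [c]; group
      _ = w * w * t := by rw [hwb.eq, mul_inv_cancel_right, hv.2]; simp only [t]; group
  have ht1 : t = 1 := eq_one_of_fixed_inverted (odd_orderOf_mem_coreC ht.1.2)
    (by
      have h1 : Commute b ((w * w)⁻¹ * c) := ((hwb.mul_right hwb).inv_right).mul_right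
        (mem_cI.1 (h.coreK_le_b hc)).symm
      rwa [hct, inv_mul_cancel_left] at h1) ht.2
  have hww : w * w ∈ coreK (nQ a b p) := by rw [hct, ht1, mul_one] at hc; exact hc
  obtain ⟨n, hn⟩ := exists_sq_root (odd_orderOf_mem_coreC hw.1)
  have hwc : w ∈ coreK (nQ a b p) := by
    rw [← hn, ← (Commute.refl w).mul_pow]
    exact pow_mem hww n
  exact ⟨w, hwc, v, hv, (h.tK_commute_coreK hv hwc).eq.symm⟩

/-- The elements of the core inverted by `s`. -/
def JSet (a b : G) (p : ℕ) (s : G) : Type u :=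
  {w : G // w ∈ coreK (nQ a b p) ∧ s * w * s⁻¹ = w⁻¹}

include hI hs hsK hsc hne hsZ in
theorem card_eq_of_moved :
    Nat.card (coreC a) = (Nat.card h.tK * Nat.card (JSet a b p s)) *
      Nat.card (coreC a ⊓ cI s : Subgroup G) := by
  classical
  have key : ∀ v : h.tK, ∃ d ∈ coreK (nQ a b p), (∀ c ∈ coreK (nQ a b p), Commute d c) ∧
      s * ((v : G) * d) * s⁻¹ = ((v : G) * d)⁻¹ := fun v =>
    h.exists_twist hI hs hsK (mem_cI.1 hsc) hne v.2
  choose d hd hdc hdi using key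
  have hfun : ∀ (v : h.tK) (w : JSet a b p s), (v : G) * d v * w.1 ∈ coreC a ∧
      s * ((v : G) * d v * w.1) * s⁻¹ = ((v : G) * d v * w.1)⁻¹ := by
    intro v w
    refine ⟨mul_mem (mul_mem v.2.1.2 (h.coreK_le_coreC (hd v))) (h.coreK_le_coreC w.2.1), ?_⟩
    have hcw : Commute ((v : G) * d v) w.1 :=
      (h.tK_commute_coreK v.2 w.2.1).mul_left (hdc v _ w.2.1)
    rw [show s * ((v : G) * d v * w.1) * s⁻¹ = (s * ((v : G) * d v) * s⁻¹) * (s * w.1 * s⁻¹) by group,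
      hdi v, w.2.2, ← mul_inv_rev, hcw.eq]
  have hbij : Nat.card (h.tK × JSet a b p s) =
      Nat.card {x : G // x ∈ coreC a ∧ s * x * s⁻¹ = x⁻¹} := by
    refine Nat.card_congr (Equiv.ofBijective (fun vw => ⟨_, hfun vw.1 vw.2⟩) ⟨?_, fun x => ?_⟩)
    · rintro ⟨v, w⟩ ⟨v', w'⟩ he
      have he' : (v : G) * d v * w.1 = v' * d v' * w'.1 := congrArg Subtype.val he
      have h1 : (v' : G)⁻¹ * v ∈ h.tK ⊓ coreK (nQ a b p) := by
        refine mem_inf.2 ⟨mul_mem (inv_mem v'.2) v.2, ?_⟩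
        rw [show (v' : G)⁻¹ * v = (v' : G)⁻¹ * ((v : G) * d v * w.1) * (d v * w.1)⁻¹ by group, he',
          show (v' : G)⁻¹ * ((v' : G) * d v' * w'.1) = d v' * w'.1 by group]
        exact mul_mem (mul_mem (hd v') w'.2.1) (inv_mem (mul_mem (hd v) w.2.1))
      rw [h.tK_inf_coreK, mem_bot, inv_mul_eq_one] at h1
      have hv : v' = v := Subtype.ext h1
      subst hv
      exact Prod.ext rfl (Subtype.ext (mul_left_cancel he'))
    · obtain ⟨c, hc, v, hv, he⟩ := h.inverted_split hI hs hsK hsc hne hsZ x.2.1 x.2.2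
      set dv := d ⟨v, hv⟩
      set w := dv⁻¹ * c
      have hw : w ∈ coreK (nQ a b p) := mul_mem (inv_mem (hd _)) hc
      have hvd : v * dv * w = x.1 := by simp only [w]; rw [he]; group
      have hcw : Commute (v * dv) w :=
        (h.tK_commute_coreK hv hw).mul_left (hdc ⟨v, hv⟩ _ hw)
      have hwi : s * w * s⁻¹ = w⁻¹ := by
        have h1 := x.2.2
        rw [← hvd, show s * (v * dv * w) * s⁻¹ = (s * (v * dv) * s⁻¹) * (s * w * s⁻¹) by group,
          show s * (v * dv) * s⁻¹ = (v * dv)⁻¹ from hdi ⟨v, hv⟩,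
          show (v * dv * w)⁻¹ = (v * dv)⁻¹ * w⁻¹ by rw [hcw.eq, mul_inv_rev]] at h1
        exact mul_left_cancel h1
      exact ⟨⟨⟨v, hv⟩, ⟨w, hw, hwi⟩⟩, Subtype.ext hvd⟩
  rw [← Nat.card_prod h.tK (JSet a b p s), hbij,
    ← CfsgLib.SylL34.relIndex_eq_card_inverted (odd_coreC a) (invol_mul_self hs)
      (fun x hx => conj_mem_coreC hsc hx), relIndex_mul_card' inf_le_left]

include hs hsK in
theorem odd_card_JSet : Odd (Nat.card (JSet a b p s)) := by
  rw [show Nat.card (JSet a b p s) = Nat.card {x : G // x ∈ coreK (nQ a b p) ∧ s * x * s⁻¹ = x⁻¹}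
    from rfl, ← CfsgLib.SylL34.relIndex_eq_card_inverted (odd_coreK _) (invol_mul_self hs)
      (fun x hx => conj_mem_coreK hsK hx)]
  exact (odd_coreK _).of_dvd_nat (relIndex_dvd_card _ _)

/-- The core and its conjugate by an element of `O(C(a))` outside `N(Q)` meet trivially. -/
theorem eq_one_of_conj_coreK {r d : G} (hr : r ∈ coreC a) (hrK : r ∉ nQ a b p)
    (hd : d ∈ coreK (nQ a b p)) (hd' : r * d * r⁻¹ ∈ coreK (nQ a b p)) : d = 1 := by
  by_contra hd1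
  set K := nQ a b p with hK
  obtain ⟨z, hz, hz1⟩ := (bot_or_exists_ne_one (qP a b p)).resolve_left h.ne
  obtain ⟨y, hy, hyb, hy0⟩ := h.exists_y
  have hyK : y ∈ h.tK := ⟨⟨h.zP_le_nQ hy, zP_le_coreC a p hy⟩, hyb⟩
  have hy1 : y ≠ 1 := fun e => hy0 (e ▸ one_mem _)
  set b' := r⁻¹ * b * r with hb'
  have hb'd : Commute b' d := by
    have h1 : Commute b (r * d * r⁻¹) := (mem_cI.1 (h.coreK_le_b hd')).symm
    have h2 := h1.map (MulAut.conj r⁻¹).toMonoidHom
    simpa [MulAut.conj_apply, mul_assoc, hb'] using h2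
  have hbd : Commute b d := (mem_cI.1 (h.coreK_le_b hd)).symm
  have hbb := invol_mul_self h.hb
  have hbi := invol_inv h.hb
  set e := b * b' with he
  have he_eq : e = (b * r⁻¹ * b⁻¹) * r := by rw [he, hb', hbi]; group
  have heO : e ∈ coreC a := he_eq ▸ mul_mem (h.b_conj_coreC (inv_mem hr)) hr
  have hei : b * e * b⁻¹ = e⁻¹ := by
    have hb'i : b'⁻¹ = b' := by rw [hb', mul_inv_rev, mul_inv_rev, inv_inv, hbi, mul_assoc]
    rw [he, mul_inv_rev, hb'i, hbi, ← mul_assoc, hbb, one_mul]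
  have heK : e ∉ K := by
    intro heK
    have hez : Commute e z := h.tK_commute_qP ⟨⟨heK, heO⟩, hei⟩ hz
    have hb'z : Commute b' z := by
      have h1 : Commute (b * e) z := (show Commute b z from (mem_cI.1 hz.2).symm).mul_left hez
      rwa [he, ← mul_assoc, hbb, one_mul] at h1
    have h2 := hb'z.map (MulAut.conj r).toMonoidHom
    simp only [MulEquiv.coe_toMonoidHom, MulAut.conj_apply,
      show r * b' * r⁻¹ = b by rw [hb']; group] at h2
    exact hrK (h.mem_of_conj_mem hz hz1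
      ⟨conj_mem_zP (coreC_le_cI a hr) hz.1, mem_cI.2 h2.eq.symm⟩)
  -- inside `C(d)`
  have hda : Commute a d := (mem_cI.1 (h.coreK_le_a hd)).symm
  have hCtop : cI d ≠ ⊤ := h.min.cI_ne_top hd1
  have haC : a ∈ cI d := mem_cI.2 hda.eq
  have hbC : b ∈ cI d := mem_cI.2 hbd.eq
  have heC : e ∈ cI d := mem_cI.2 (hbd.mul_left hb'd).eq
  have hyC : y ∈ cI d := mem_cI.2 (h.tK_commute_coreK hyK hd).eq
  obtain ⟨R, ρ, hρR, hRle, hcyc, hR⟩ := h.min.torus hCtop h.ha haC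
  set π := QuotientGroup.mk' (Cfsg.oddCore ↥(cI d))
  have hpow : ∀ {x : G} (hx : x ∈ cI d), x ∈ coreC a → b * x * b⁻¹ = x⁻¹ →
      π ⟨x, hx⟩ ∈ zpowers (π ⟨ρ, (hRle hρR).1⟩) := by
    intro x hx hxa hxi
    obtain ⟨i, hi⟩ := hcyc x ((hR b hbC h.hb h.comm.symm h.hne).1 x ⟨hx, hxa⟩ hxi)
    have h1 : π ((⟨ρ, (hRle hρR).1⟩ ^ i)⁻¹ * ⟨x, hx⟩) = 1 := mem_coreK.1 hi
    rw [map_mul, map_inv, map_pow, inv_mul_eq_one] at h1
    exact h1 ▸ pow_mem (mem_zpowers _) i
  have hcomm : e * y * e⁻¹ * y⁻¹ ∈ coreK (cI d) := by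
    obtain ⟨i, hi⟩ := hpow heC heO hei
    obtain ⟨j, hj⟩ := hpow hyC (zP_le_coreC a p hy) hyb
    simp only at hi hj
    refine mem_coreK (x := (⟨e, heC⟩ : cI d) * ⟨y, hyC⟩ * (⟨e, heC⟩ : cI d)⁻¹ * (⟨y, hyC⟩ : cI d)⁻¹) |>.2 ?_
    rw [map_mul, map_mul, map_mul, map_inv, map_inv, ← hi, ← hj, zpow_mul_comm,
      mul_inv_cancel_right, mul_inv_cancel]
  set q := e * y * e⁻¹ * y⁻¹ with hq
  have hqZ : q ∈ zP a p := mul_mem (conj_mem_zP (coreC_le_cI a heO) hy) (inv_mem hy)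
  have hns : ¬ Group.IsSolvable K := not_solvable_of_commute h.min h.ha h.a_mem (h.zP_le_nQ hy)
    (odd_orderOf_mem_coreC (zP_le_coreC a p hy)) (mem_cI.1 (coreC_le_cI a (zP_le_coreC a p hy))) hy0
  have hle : coreK (cI d) ⊓ K ≤ coreK K := by
    refine le_coreK_of_odd h.min h.nQ_ne_top hns h.ha h.a_mem inf_le_right
      ((odd_coreK _).of_dvd_nat (card_dvd_of_le inf_le_left)) fun k hk => ?_
    have hkC : k * a * k⁻¹ ∈ cI d :=
      mem_cI.2 (conj_commute_coreK h.coreK_le_a hk hd).eq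
    have hkK : k * a * k⁻¹ ∈ K := mul_mem (mul_mem hk h.a_mem) (inv_mem hk)
    exact mem_normalizer_iff_of_finite fun x hx =>
      mem_inf.2 ⟨conj_mem_coreK hkC hx.1, mul_mem (mul_mem hkK hx.2) (inv_mem hkK)⟩
  have hqQ : q ∈ qP a b p := by
    obtain ⟨q', hq', v', hv', he'⟩ := h.zP_split hqZ
    have h1 : v' ∈ h.tK ⊓ coreK K := by
      refine mem_inf.2 ⟨hv'.2, ?_⟩
      rw [eq_inv_mul_of_mul_eq he'.symm]
      exact mul_mem (inv_mem (h.qP_le_coreK hq')) (hle (mem_inf.2 ⟨hcomm, h.zP_le_nQ hqZ⟩))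
    rw [h.tK_inf_coreK, mem_bot] at h1
    rw [he', h1, mul_one]; exact hq'
  have hey : Commute e y := by
    by_contra hey
    have hq1 : q ≠ 1 := fun e1 => hey (mul_inv_eq_iff_eq_mul.1 (mul_inv_eq_one.1 e1))
    refine heK (h.mem_of_conj_mem hqQ hq1 ?_)
    have h1 : e * y * e⁻¹ = q * y := by rw [hq, inv_mul_cancel_right]
    have hbq : b * q * b⁻¹ = q := by rw [← mem_cI.1 hqQ.2, mul_inv_cancel_right]
    have h2 : e⁻¹ * y⁻¹ * e = q * y⁻¹ := by
      calc e⁻¹ * y⁻¹ * e = (b * e * b⁻¹) * (b * y * b⁻¹) * (b * e * b⁻¹)⁻¹ := by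
            rw [hei, hyb, inv_inv]
        _ = b * (e * y * e⁻¹) * b⁻¹ := by group
        _ = (b * q * b⁻¹) * (b * y * b⁻¹) := by rw [h1]; group
        _ = q * y⁻¹ := by rw [hbq, hyb]
    have h3 : e * q * e⁻¹ = q := by
      have h4 : y⁻¹ = (e * q * e⁻¹) * (e * y * e⁻¹)⁻¹ := by
        calc y⁻¹ = e * (e⁻¹ * y⁻¹ * e) * e⁻¹ := by group
          _ = e * (q * y⁻¹) * e⁻¹ := by rw [h2]
          _ = _ := by group
      rw [h1] at h4
      have h5 := eq_mul_inv_iff_mul_eq.1 h4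
      rw [← h5, (zP_commute hqZ hy).eq, inv_mul_cancel_left]
    rw [h3]; exact hqQ
  have hey' : ∀ x ∈ h.y0, Commute e x := by
    intro x hx
    rw [h.y0_gen (mem_inf.2 ⟨hy, hyK⟩) hy1] at hx
    obtain ⟨i, rfl⟩ := hx
    exact hey.zpow_right i
  obtain ⟨hrep, -⟩ := h.pow_rep heO hei heK hey'
  obtain ⟨S, D, i, hz', hi', hSc⟩ := exists_data h.min h.ha h.hb h.b_mem_cI h.hne
  have hSK := h.sylow_le D hz' hi' hSc
  let E : Subgroup G :=
    { carrier := {x | ∀ c ∈ cI a, c * x * c⁻¹ ∈ coreK K}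
      one_mem' := fun c _ => by simp
      mul_mem' := fun {x x'} hx hx' c hc => by
        rw [show c * (x * x') * c⁻¹ = (c * x * c⁻¹) * (c * x' * c⁻¹) by group]
        exact mul_mem (hx c hc) (hx' c hc)
      inv_mem' := fun {x} hx c hc => by
        rw [show c * x⁻¹ * c⁻¹ = (c * x * c⁻¹)⁻¹ by group]
        exact inv_mem (hx c hc) }
  have hdE : d ∈ E := by
    intro c hc
    obtain ⟨o, ho, t, ht, hot⟩ := exists_mul_sylow h.min h.ha hSc (inv_mem hc)
    obtain ⟨n, hn⟩ := hrep o ho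
    have hc' : c = (((e ^ n)⁻¹ * o) * t)⁻¹ * (e ^ n)⁻¹ := by
      rw [← inv_inv c, hot]; group
    have hed : Commute ((e ^ n)⁻¹) d := ((show Commute e d from mem_cI.1 heC).pow_left n).inv_left
    rw [hc', show (((e ^ n)⁻¹ * o) * t)⁻¹ * (e ^ n)⁻¹ * d * ((((e ^ n)⁻¹ * o) * t)⁻¹ * (e ^ n)⁻¹)⁻¹ =
      (((e ^ n)⁻¹ * o) * t)⁻¹ * ((e ^ n)⁻¹ * d * ((e ^ n)⁻¹)⁻¹) * ((((e ^ n)⁻¹ * o) * t)⁻¹)⁻¹ by group,
      hed.eq, mul_inv_cancel_right]
    exact conj_mem_coreK (inv_mem (mul_mem hn (hSK ht))) hd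
  have hEle : E ≤ coreK K := fun x hx => by simpa using hx 1 (one_mem _)
  have hEn : cI a ≤ normalizer (E : Set G) := fun c hc =>
    mem_normalizer_iff_of_finite fun x hx c' hc' => by
      rw [show c' * (c * x * c⁻¹) * c'⁻¹ = (c' * c) * x * (c' * c)⁻¹ by group]
      exact hx _ (mul_mem hc' hc)
  have hEbot : E ≠ ⊥ := fun e' => hd1 (mem_bot.1 (e' ▸ hdE))
  have hEtop : E ≠ ⊤ := fun e' => h.min.cI_ne_top (invol_ne_one h.ha)
    (top_le_iff.1 (e' ▸ hEle.trans h.coreK_le_a))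
  have hN : normalizer (E : Set G) = cI a := ((h.max a h.ha).le_iff.1 hEn).resolve_left
    (h.min.normalizer_ne_top hEbot hEtop)
  obtain ⟨u, -, huQ, -, -, hconj⟩ := h.exists_u
  refine hconj (hN ▸ mem_normalizer_iff_of_finite fun x hx => ?_)
  rw [(conj_commute_coreK h.coreK_le_a (h.mem_nQ_of_commute fun z hz => (huQ z hz).symm)
    (hEle hx)).eq, mul_inv_cancel_right]
  exact hx

include hI hs hsK hsc hne hsZ in
theorem card_JSet_le : Nat.card (JSet a b p s) ≤ Nat.card h.tK := by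
  classical
  obtain ⟨o, ho, hoK⟩ := SetLike.not_le_iff_exists.1 h.not_coreC_le
  obtain ⟨r, v, hr, hv, rfl, hrs, hvs⟩ := exists_fixed_mul_inv (odd_coreC a) (invol_mul_self hs)
    (fun x hx => conj_mem_coreC hsc hx) ho
  have hrK : r ∉ nQ a b p := fun hrK => hoK (mul_mem hrK (h.inverted_mem hs hsc hsZ hv hvs))
  have key : ∀ w : JSet a b p s, ∃ c ∈ coreK (nQ a b p), ∃ v ∈ h.tK, r * w.1 * r⁻¹ = v * c := by
    intro w
    refine h.inverted_split hI hs hsK hsc hne hsZ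
      (mul_mem (mul_mem hr (h.coreK_le_coreC w.2.1)) (inv_mem hr)) ?_
    calc s * (r * w.1 * r⁻¹) * s⁻¹ = (s * r * s⁻¹) * (s * w.1 * s⁻¹) * (s * r * s⁻¹)⁻¹ := by group
      _ = (r * w.1 * r⁻¹)⁻¹ := by rw [hrs.eq, mul_inv_cancel_right, w.2.2]; group
  choose c hc t ht he using key
  refine Nat.card_le_card_of_injective (fun w => (⟨t w, ht w⟩ : h.tK)) fun w w' hww => ?_
  have ht' : t w = t w' := congrArg Subtype.val hww
  have hd : r * (w.1⁻¹ * w'.1) * r⁻¹ ∈ coreK (nQ a b p) := by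
    rw [show r * (w.1⁻¹ * w'.1) * r⁻¹ = (r * w.1 * r⁻¹)⁻¹ * (r * w'.1 * r⁻¹) by group, he w, he w',
      ht', show (t w' * c w)⁻¹ * (t w' * c w') = (c w)⁻¹ * c w' by group]
    exact mul_mem (inv_mem (hc w)) (hc w')
  exact Subtype.ext (inv_mul_eq_one.1 (h.eq_one_of_conj_coreK hr hrK
    (mul_mem (inv_mem w.2.1) w'.2.1) hd))

end Moving

end Ov

end CfsgLib.GW.Alpha
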